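import Cfsg.Agent.Lib.Ico.Lines
import Cfsg.Agent.Lib.Golay.J2

/-!
# The icosian reflection group modulo sign is the simple group of order 604800 on 100 points
-/

set_option autoImplicit false

noncomputable section

namespace CfsgLib.Ico

open Cfsg.Spor CfsgLib.Golay

theorem inv_ok (j : Fin 315) : J2.O.ok (invCode j) = true := by
  have h : invCode j ∈ Data.classJ2 := by
    rw [invCode, List.getD_eq_getElem _ _ (by rw [class_ok.1]; exact j.isLt)]; exact List.getElem_mem _
  exact List.all_eq_true.1 class_ok.2.2.1 _ h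

/-- The involution of a line. -/
def invPerm (j : Fin 315) : Equiv.Perm (Fin 100) := J2.O.val (invCode j)

theorem valid_ok {A : ℕ} (h : J2.O.ok A = true) : validL 100 (PackPerm.toL 100 A) = true := PackPerm.validL_of_okP h

theorem permOf_injective {L M : List ℕ} (hL : validL 100 L = true) (hM : validL 100 M = true)
    (h : permOf (Equiv.refl (Fin 100)) L = permOf (Equiv.refl (Fin 100)) M) : L = M := by
  have hl := (validL_iff.1 hL).1
  have hm := (validL_iff.1 hM).1
  refine List.ext_getElem (hl.trans hm.symm) fun i h1 h2 => ?_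
  have a := permOf_apply (Equiv.refl (Fin 100)) hL ⟨i, hl ▸ h1⟩
  have b := permOf_apply (Equiv.refl (Fin 100)) hM ⟨i, hl ▸ h1⟩
  rw [h] at a
  rw [← List.getD_eq_getElem L 0 h1, ← List.getD_eq_getElem M 0 h2]
  exact a.symm.trans b

theorem class_packed :
    (List.range 315).all (fun m => PackPerm.pack (PackPerm.toL 100 (invCode m)) == invCode m) = true := by
  decide +kernel

theorem invPerm_injective : Function.Injective invPerm := by
  intro i j h
  have hL : PackPerm.toL 100 (invCode i) = PackPerm.toL 100 (invCode j) :=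
    permOf_injective (valid_ok (inv_ok i)) (valid_ok (inv_ok j)) h
  have hp : ∀ m : Fin 315, PackPerm.pack (PackPerm.toL 100 (invCode m)) = invCode m := fun m => by
    simpa using List.all_eq_true.1 class_packed m.val (List.mem_range.2 m.isLt)
  have e : invCode i = invCode j := by rw [← hp i, ← hp j, hL]
  simp only [invCode, List.getD_eq_getElem _ _ (show (i : ℕ) < Data.classJ2.length by rw [class_ok.1]; exact i.isLt),
    List.getD_eq_getElem _ _ (show (j : ℕ) < Data.classJ2.length by rw [class_ok.1]; exact j.isLt)] at e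
  exact Fin.ext (class_ok.2.1.getElem_inj_iff.1 e)

theorem invPerm_sq (j : Fin 315) : invPerm j * invPerm j = 1 := by
  have h : invCode j ∈ Data.classJ2 := by
    rw [invCode, List.getD_eq_getElem _ _ (by rw [class_ok.1]; exact j.isLt)]; exact List.getElem_mem _
  have e := List.all_eq_true.1 class_ok.2.2.2 _ h
  simp only [beq_iff_eq] at e
  rw [invPerm, ← J2.O.val_mul _ _ (inv_ok j) (inv_ok j), e, J2.O.val_one]

theorem invPerm_gen (k : Fin 4) (j : Fin 315) :
    invPerm (genIx k) * invPerm j = invPerm (act (genSim k) j) * invPerm (genIx k) := by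
  have h := List.all_eq_true.1 (List.all_eq_true.1 class_act k.val (List.mem_range.2 k.isLt)) j.val
    (List.mem_range.2 j.isLt)
  simp only [beq_iff_eq] at h
  rw [invPerm, invPerm, invPerm, ← J2.O.val_mul _ _ (inv_ok _) (inv_ok _), ← J2.O.val_mul _ _ (inv_ok _) (inv_ok _),
    act_tbl]
  exact congrArg J2.O.val h

theorem invPerm_gen_mem (k : Fin 4) : invPerm (genIx k) ∈ J2.grpJ2 := by
  have h := List.all_eq_true.1 class_idx k.val (List.mem_range.2 k.isLt)
  simp only [beq_iff_eq] at h
  show J2.O.val (invCode (genLine k)) ∈ J2.grpJ2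
  rw [h]
  exact (J2.levels_spec.2.2.1 _).2

theorem invPerm_mem (j : Fin 315) : invPerm j ∈ J2.grpJ2 := by
  obtain ⟨g, hg, rfl⟩ := exists_gen_line j
  suffices H : ∀ g ∈ genGroup, ∀ m, invPerm m ∈ J2.grpJ2 → invPerm (act g m) ∈ J2.grpJ2 from
    H g hg _ (invPerm_gen_mem 0)
  intro g hg
  induction hg using Subgroup.closure_induction'' with
  | mem x hx =>
    obtain ⟨k, rfl⟩ := hx
    intro m hm
    have e := invPerm_gen k m
    rw [← eq_mul_inv_iff_mul_eq] at e
    have e' : invPerm (act (genSim k) m) = invPerm (genIx k) * invPerm m * (invPerm (genIx k))⁻¹ := by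
      rw [invPerm_gen, mul_inv_cancel_right]
    rw [e']
    exact mul_mem (mul_mem (invPerm_gen_mem k) hm) (inv_mem (invPerm_gen_mem k))
  | inv_mem x hx =>
    obtain ⟨k, rfl⟩ := hx
    intro m hm
    have e : invPerm m = invPerm (genIx k) * invPerm (act (genSim k)⁻¹ m) * (invPerm (genIx k))⁻¹ := by
      rw [invPerm_gen, mul_inv_cancel_right, ← Equiv.Perm.mul_apply, ← map_mul, mul_inv_cancel, map_one]
      rfl
    have e' : invPerm (act (genSim k)⁻¹ m) = (invPerm (genIx k))⁻¹ * invPerm m * invPerm (genIx k) := by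
      rw [e]; group
    rw [e']
    exact mul_mem (mul_mem (inv_mem (invPerm_gen_mem k)) hm) (invPerm_gen_mem k)
  | one => intro m hm; rw [map_one]; exact hm
  | mul x y _ _ hx hy => intro m hm; rw [map_mul]; exact hx _ (hy _ hm)

theorem class_invariant {g : Equiv.Perm (Fin 100)} (hg : g ∈ J2.grpJ2) (j : Fin 315) :
    ∃ i, g * invPerm j * g⁻¹ = invPerm i := by
  revert j
  refine Subgroup.closure_induction (p := fun x _ => ∀ j, ∃ i, x * invPerm j * x⁻¹ = invPerm i) ?_ ?_ ?_ ?_ hg
  · rintro _ ⟨r, hr, rfl⟩ j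
    obtain ⟨m, hm, rfl⟩ := List.getElem_of_mem hr
    obtain ⟨hlen, hall⟩ := class_closed
    have h := List.all_eq_true.1 hall m (List.mem_range.2 (hlen ▸ hm))
    simp only [Bool.and_eq_true, decide_eq_true_eq, List.all_eq_true, List.mem_range, beq_iff_eq] at h
    obtain ⟨⟨hrow, hlt⟩, heq⟩ := h
    have hi : (Data.conjTbl.getD m []).getD j.val 0 < 315 := by
      rw [List.getD_eq_getElem _ _ (by rw [hrow]; exact j.isLt)]
      exact hlt _ (List.getElem_mem _)
    refine ⟨⟨_, hi⟩, ?_⟩
    have hok : J2.O.ok (Bsgs.allGens J2.levels)[m] = true := J2.levels_spec.2.1 _ (List.getElem_mem hm)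
    have e := heq j.val j.isLt
    rw [List.getD_eq_getElem _ _ hm] at e
    rw [mul_inv_eq_iff_eq_mul, invPerm, invPerm, ← J2.O.val_mul _ _ hok (inv_ok j),
      ← J2.O.val_mul _ _ (inv_ok ⟨_, hi⟩) hok]
    exact congrArg J2.O.val e
  · intro j; exact ⟨j, by simp⟩
  · intro x y _ _ hx hy j
    obtain ⟨i, hi⟩ := hy j
    obtain ⟨l, hl⟩ := hx i
    exact ⟨l, by rw [← hl, ← hi]; group⟩
  · intro x _ hx j
    -- conjugation by `x` permutes the finite class, hence so does conjugation by `x⁻¹`
    choose f hf using hx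
    have hfi : Function.Injective f := fun a b e => invPerm_injective (by
      have := (hf a).trans ((congrArg invPerm e).trans (hf b).symm)
      exact mul_left_cancel (mul_right_cancel this))
    obtain ⟨i, hi⟩ := (Finite.injective_iff_surjective.1 hfi) j
    exact ⟨i, by rw [← hi, ← hf i]; group⟩

/-- The image of a class element under conjugation. -/
def cjFun (g : J2.grpJ2) (j : Fin 315) : Fin 315 := (class_invariant g.2 j).choose

theorem cjFun_spec (g : J2.grpJ2) (j : Fin 315) :
    (g : Equiv.Perm (Fin 100)) * invPerm j * (g : Equiv.Perm (Fin 100))⁻¹ = invPerm (cjFun g j) :=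
  (class_invariant g.2 j).choose_spec

theorem cjFun_mul (f g : J2.grpJ2) (j : Fin 315) : cjFun (f * g) j = cjFun f (cjFun g j) := by
  apply invPerm_injective
  rw [← cjFun_spec, ← cjFun_spec, ← cjFun_spec]
  simp only [Subgroup.coe_mul]
  group

theorem cjFun_one (j : Fin 315) : cjFun 1 j = j := by
  apply invPerm_injective
  rw [← cjFun_spec]
  simp

/-- Conjugation on the 315 involutions. -/
def cj : J2.grpJ2 →* Equiv.Perm (Fin 315) where
  toFun g :=
    { toFun := cjFun g
      invFun := cjFun g⁻¹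
      left_inv := fun j => by rw [← cjFun_mul, inv_mul_cancel, cjFun_one]
      right_inv := fun j => by rw [← cjFun_mul, mul_inv_cancel, cjFun_one] }
  map_one' := Equiv.ext cjFun_one
  map_mul' f g := Equiv.ext (cjFun_mul f g)

theorem cj_spec (g : J2.grpJ2) (j : Fin 315) :
    (g : Equiv.Perm (Fin 100)) * invPerm j * (g : Equiv.Perm (Fin 100))⁻¹ = invPerm (cj g j) := cjFun_spec g j

/-- An involution as an element of the group. -/
def invEl (j : Fin 315) : J2.grpJ2 := ⟨invPerm j, invPerm_mem j⟩

theorem cj_gen (k : Fin 4) : cj (invEl (genIx k)) = act (genSim k) := by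
  refine Equiv.ext fun j => invPerm_injective ?_
  rw [← cj_spec]
  show invPerm (genIx k) * invPerm j * (invPerm (genIx k))⁻¹ = _
  rw [invPerm_gen, mul_inv_cancel_right]

theorem invEl_closure : Subgroup.closure (Set.range fun k : Fin 4 => invEl (genIx k)) = ⊤ := by
  set H := Subgroup.closure (Set.range fun k : Fin 4 => invEl (genIx k)) with hH
  have hmemK : ∀ k, invEl (genIx k) ∈ H := fun k => Subgroup.subset_closure ⟨k, rfl⟩
  have hall : ∀ j, invEl j ∈ H := by
    intro j
    obtain ⟨g, hg, rfl⟩ := exists_gen_line j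
    suffices ∀ g ∈ genGroup, ∀ m, invEl m ∈ H → invEl (act g m) ∈ H from this g hg _ (hmemK 0)
    intro g hg
    have hconj : ∀ (k : Fin 4) m, invEl (act (genSim k) m) = invEl (genIx k) * invEl m * (invEl (genIx k))⁻¹ :=
      fun k m => Subtype.ext (by
        show invPerm _ = invPerm (genIx k) * invPerm m * (invPerm (genIx k))⁻¹
        rw [invPerm_gen, mul_inv_cancel_right])
    induction hg using Subgroup.closure_induction'' with
    | mem x hx =>
      obtain ⟨k, rfl⟩ := hx
      intro m hm
      rw [hconj]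
      exact mul_mem (mul_mem (hmemK k) hm) (inv_mem (hmemK k))
    | inv_mem x hx =>
      obtain ⟨k, rfl⟩ := hx
      intro m hm
      have e := hconj k (act (genSim k)⁻¹ m)
      rw [← Equiv.Perm.mul_apply, ← map_mul, mul_inv_cancel, map_one] at e
      have e' : invEl (act (genSim k)⁻¹ m) = (invEl (genIx k))⁻¹ * invEl m * invEl (genIx k) := by
        rw [show invEl m = invEl ((1 : Equiv.Perm (Fin 315)) m) from rfl, e]; group
      rw [e']
      exact mul_mem (mul_mem (inv_mem (hmemK k)) hm) (hmemK k)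
    | one => intro m hm; rw [map_one]; exact hm
    | mul x y _ _ hx hy => intro m hm; rw [map_mul]; exact hx _ (hy _ hm)
  have hN : (Subgroup.closure (Set.range invEl)).Normal := by
    refine ⟨fun n hn g => ?_⟩
    refine Subgroup.closure_induction (p := fun n _ => g * n * g⁻¹ ∈ Subgroup.closure (Set.range invEl)) ?_ ?_ ?_ ?_ hn
    · rintro _ ⟨j, rfl⟩
      rw [show g * invEl j * g⁻¹ = invEl (cj g j) from Subtype.ext (cj_spec g j)]
      exact Subgroup.subset_closure ⟨_, rfl⟩
    · simp
    · intro x y _ _ hx hy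
      have : g * (x * y) * g⁻¹ = g * x * g⁻¹ * (g * y * g⁻¹) := by group
      rw [this]; exact mul_mem hx hy
    · intro x _ hx
      have : g * x⁻¹ * g⁻¹ = (g * x * g⁻¹)⁻¹ := by group
      rw [this]; exact inv_mem hx
  haveI := J2.grpJ2_simple
  rcases hN.eq_bot_or_eq_top with h | h
  · exfalso
    have e : ∀ j, invEl j = 1 := fun j =>
      Subgroup.mem_bot.1 (h ▸ Subgroup.subset_closure ⟨j, rfl⟩)
    have : invPerm 0 = invPerm 1 := by
      rw [show invPerm 0 = (invEl 0 : Equiv.Perm (Fin 100)) from rfl, e 0,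
        show invPerm 1 = (invEl 1 : Equiv.Perm (Fin 100)) from rfl, e 1]
    exact absurd (invPerm_injective this) (by decide)
  · refine top_le_iff.1 (h ▸ (Subgroup.closure_le _).2 ?_)
    rintro _ ⟨j, rfl⟩
    exact hall j

theorem moves : ∃ j, j < 315 ∧ genImg 0 j ≠ j := by decide +kernel

theorem cj_injective : Function.Injective cj := by
  haveI := J2.grpJ2_simple
  rcases (cj.normal_ker).eq_bot_or_eq_top with h | h
  · exact (MonoidHom.ker_eq_bot_iff cj).1 h
  · exfalso
    have hall : ∀ j : Fin 315, act (genSim 0) j = j := fun j => by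
      rw [← cj_gen, show cj (invEl (genIx 0)) = 1 from (MonoidHom.mem_ker).1 (h ▸ Subgroup.mem_top _)]
      rfl
    have : genImg 0 (genLine 0) = genImg 0 (genLine 0) ∧ ∃ j, j < 315 ∧ genImg 0 j ≠ j := ⟨rfl, moves⟩
    obtain ⟨-, j, hj, hne⟩ := this
    exact hne (by have := congrArg Fin.val (hall ⟨j, hj⟩); rwa [act_tbl] at this)

theorem range_act : (act.comp genGroup.subtype).range = cj.range := by
  rw [MonoidHom.range_comp, Subgroup.range_subtype, genGroup, MonoidHom.map_closure, MonoidHom.range_eq_map,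
    ← invEl_closure, MonoidHom.map_closure, ← Set.range_comp, ← Set.range_comp]
  congr 1
  ext x
  simp [cj_gen]

theorem mem_sim_of_twoJ2 {g : Equiv.Perm Pt} (hg : g ∈ twoJ2) : g ∈ simGroup := by
  rw [twoJ2_eq] at hg
  obtain ⟨g', -, rfl⟩ := hg
  exact g'.2

/-- The action of `2·J₂` on lines. -/
def act2 : twoJ2 →* Equiv.Perm (Fin 315) := act.comp (Subgroup.inclusion fun _ hg => mem_sim_of_twoJ2 hg)

theorem range_act2 : act2.range = cj.range := by
  rw [← range_act]
  apply le_antisymm
  · rintro _ ⟨⟨g, hg⟩, rfl⟩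
    have hg' := hg
    rw [twoJ2_eq] at hg'
    obtain ⟨g', hg'm, e⟩ := hg'
    exact ⟨⟨g', hg'm⟩, congrArg act (Subtype.ext e)⟩
  · rintro _ ⟨⟨g, hg⟩, rfl⟩
    have hm : (g : Equiv.Perm Pt) ∈ twoJ2 := by rw [twoJ2_eq]; exact ⟨g, hg, rfl⟩
    exact ⟨⟨_, hm⟩, rfl⟩

/-- The element `-1`. -/
def negOne : twoJ2 := ⟨exists_neg.choose, exists_neg.choose_spec.1⟩

theorem negOne_apply (x : Pt) :
    (((negOne : Equiv.Perm Pt) x : Pt) : Fin 3 → Quaternion ℝ) = -(x : Fin 3 → Quaternion ℝ) :=
  exists_neg.choose_spec.2 x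

theorem negOne_eq_smul (x : Pt) : (negOne : Equiv.Perm Pt) x = smulPt (scal (-1, 0)) x := by
  refine Subtype.ext ((negOne_apply x).trans (funext fun t => ?_))
  show -((x : Fin 3 → Quaternion ℝ) t) = phi (scal (-1, 0)) * (x : Fin 3 → Quaternion ℝ) t
  rw [phi_scal, show valT (-1, 0) = -1 by simp [valT], Quaternion.coe_neg, Quaternion.coe_one, neg_one_mul]

theorem negOne_central : negOne ∈ Subgroup.center twoJ2 := by
  rw [Subgroup.mem_center_iff]
  intro g
  refine Subtype.ext (Equiv.ext fun x => ?_)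
  show (g : Equiv.Perm Pt) ((negOne : Equiv.Perm Pt) x) = (negOne : Equiv.Perm Pt) ((g : Equiv.Perm Pt) x)
  rw [negOne_eq_smul, negOne_eq_smul, (mem_sim_of_twoJ2 g.2).smul]

theorem negOne_ne_one : negOne ≠ 1 := by
  intro e
  have h := negOne_apply (frame 0)
  rw [e] at h
  have h0 := congrFun h 0
  simp [frame_apply] at h0
  have := congrArg QuaternionAlgebra.re h0
  rw [show (2 : Quaternion ℝ) = ((2 : ℝ) : Quaternion ℝ) from rfl] at this
  simp at this
  linarith

theorem act2_ker : act2.ker = Subgroup.zpowers negOne := by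
  apply le_antisymm
  · intro g hg
    have hg' : act ⟨(g : Equiv.Perm Pt), mem_sim_of_twoJ2 g.2⟩ = 1 := hg
    rcases act_eq_one hg' with h | h
    · rw [show g = 1 from Subtype.ext (Equiv.ext h)]; exact one_mem _
    · rw [show g = negOne from Subtype.ext (Equiv.ext fun x => Subtype.ext ((h x).trans (negOne_apply x).symm))]
      exact Subgroup.mem_zpowers _
  · rw [Subgroup.zpowers_le, MonoidHom.mem_ker]
    refine Equiv.ext fun j => ?_
    show lineOf ((negOne : Equiv.Perm Pt) (linePt j)) = j
    rw [negOne_eq_smul, lineOf_eq (by rw [show nrmQ (scal (-1, 0)) = (1, 0) by decide, valT_one])]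

theorem card_ker : Nat.card act2.ker = 2 := by
  rw [act2_ker, Nat.card_zpowers]
  refine orderOf_eq_prime ?_ negOne_ne_one
  refine Subtype.ext (Equiv.ext fun x => Subtype.ext ?_)
  rw [pow_two]
  show (((negOne : Equiv.Perm Pt) ((negOne : Equiv.Perm Pt) x) : Pt) : Fin 3 → Quaternion ℝ) = _
  rw [negOne_apply, negOne_apply, neg_neg]
  rfl

theorem noncommute : ∃ j, j < 315 ∧ genImg 0 j < 315 ∧ genImg 1 j < 315 ∧
    genImg 0 (genImg 1 j) ≠ genImg 1 (genImg 0 j) := by decide +kernel

theorem center_eq_ker : Subgroup.center twoJ2 = act2.ker := by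
  apply le_antisymm
  · haveI := J2.grpJ2_simple
    intro z hz
    obtain ⟨a, ha⟩ : act2 z ∈ cj.range := range_act2 ▸ ⟨z, rfl⟩
    have hac : a ∈ Subgroup.center J2.grpJ2 := by
      rw [Subgroup.mem_center_iff]
      intro b
      apply cj_injective
      obtain ⟨w, hw⟩ : cj b ∈ act2.range := range_act2.symm ▸ ⟨b, rfl⟩
      rw [map_mul, map_mul, ha, ← hw, ← map_mul, ← map_mul, Subgroup.mem_center_iff.1 hz w]
    rcases (inferInstance : (Subgroup.center J2.grpJ2).Normal).eq_bot_or_eq_top with h | h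
    · rw [h] at hac
      rw [MonoidHom.mem_ker, ← ha, Subgroup.mem_bot.1 hac, map_one]
    · exfalso
      have hcomm : ∀ x y : J2.grpJ2, x * y = y * x := fun x y =>
        Subgroup.mem_center_iff.1 (h ▸ Subgroup.mem_top y) x
      have e1 : act (genSim 0) * act (genSim 1) = act (genSim 1) * act (genSim 0) := by
        rw [← cj_gen, ← cj_gen, ← map_mul, ← map_mul, hcomm]
      obtain ⟨j, hj, hj0, hj1, hne⟩ := noncommute
      have := congrArg Fin.val (Equiv.ext_iff.1 e1 ⟨j, hj⟩)
      rw [Equiv.Perm.mul_apply, Equiv.Perm.mul_apply, act_tbl, act_tbl, act_tbl, act_tbl] at this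
      exact hne this
  · rw [act2_ker, Subgroup.zpowers_le]
    exact negOne_central

/-- J₂ is the permutation group on 100 points. -/
theorem j2_equiv : Nonempty (Cfsg.Spor.J2 ≃* J2.grpJ2) :=
  ⟨(QuotientGroup.quotientMulEquivOfEq center_eq_ker).trans
    ((QuotientGroup.quotientKerEquivRange act2).trans
      ((MulEquiv.subgroupCongr range_act2).trans (MonoidHom.ofInjective cj_injective).symm))⟩

theorem card_j2 : Nat.card Cfsg.Spor.J2 = 604800 := by
  obtain ⟨e⟩ := j2_equiv
  rw [Nat.card_congr e.toEquiv, J2.card_grpJ2]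

theorem card_center : Nat.card (Subgroup.center twoJ2) = 2 := by rw [center_eq_ker, card_ker]

theorem card_twoJ2 : Nat.card twoJ2 = 1209600 := by
  have h := Subgroup.card_eq_card_quotient_mul_card_subgroup (Subgroup.center twoJ2)
  rw [show Nat.card (twoJ2 ⧸ Subgroup.center twoJ2) = 604800 from card_j2, card_center] at h
  omega

theorem j2_simple : IsSimpleGroup Cfsg.Spor.J2 := by
  obtain ⟨e⟩ := j2_equiv
  haveI := J2.grpJ2_simple
  exact e.isSimpleGroup

end CfsgLib.Ico
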