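import Cfsg.Agent.Lib.Ico.U33Ops
import Cfsg.Agent.Lib.Ico.U33Data

/-!
# Kernel checks of the chain of pairs
-/

set_option autoImplicit false
set_option maxRecDepth 100000

namespace CfsgLib.Ico.U33

open CfsgLib.Golay

set_option maxHeartbeats 4000000 in
theorem chain_ok : Bsgs.check O [] U33Data.levels = true := by decide +kernel

theorem chain_card : (U33Data.levels.map fun l => l.reps.length).prod = 6048 := by decide +kernel

set_option maxHeartbeats 4000000 in
theorem gens_tail : (Bsgs.allGens U33Data.levels).all (fun c =>
    J2.O.img (permPart c) 0 == 0) = true := by decide +kernel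

set_option maxHeartbeats 4000000 in
theorem lift_ok : (Bsgs.allGens J2.levels.tail).length = U33Data.liftIdx.length ∧
    (List.range U33Data.liftIdx.length).all (fun k =>
      PackPerm.toL 100 (permPart (Bsgs.prodReps O U33Data.levels (U33Data.liftIdx.getD k []))) ==
        PackPerm.toL 100 ((Bsgs.allGens J2.levels.tail).getD k 0)) = true := by decide +kernel

end CfsgLib.Ico.U33
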