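import Cfsg.Agent.Lib.Ico.J2
import Cfsg.Agent.Lib.Ico.U33Checks
import Cfsg.Agent.Lib.SmallGroups.U33Degrees.Model

/-!
# The point stabiliser on 100 points is the unitary group
-/

set_option autoImplicit false

noncomputable section

namespace CfsgLib.Ico.U33

open CfsgLib.Techniques.UThreeLTwo CfsgLib.Golay Cfsg
open CfsgLib.SmallGroups.U33Degrees (UnitB unitB_iff)

section General

variable {G : Type*} [Group G] [Finite G] {α : Type*} [MulAction G α] (O : Bsgs.Ops G α)

/-- An element fixing the base lies in the next group. -/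
theorem mem_next {fixed : List ℕ} {l : Bsgs.Lvl} {ls : List Bsgs.Lvl} (hfix : ∀ f ∈ fixed, O.ptOk f = true)
    (hc : Bsgs.check O fixed (l :: ls) = true) {g : G} (hg : g ∈ Bsgs.grp O (l :: ls))
    (h : g • O.pt l.base = O.pt l.base) : g ∈ Bsgs.grp O ls := by
  obtain ⟨r, hr, k, hk, rfl⟩ := (Bsgs.spec O hfix hc).2.2.2.2 l ls rfl g hg
  simp only [Bsgs.check, Bool.and_eq_true, decide_eq_true_eq, List.all_eq_true] at hc
  obtain ⟨⟨⟨⟨⟨⟨⟨⟨hb, hhead⟩, hreps⟩, hnd⟩, -⟩, -⟩, -⟩, -⟩, hrec⟩ := hc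
  have hfix' : ∀ f ∈ fixed ++ [l.base], O.ptOk f = true := by
    intro f hf
    rcases List.mem_append.1 hf with hf | hf
    · exact hfix f hf
    · rw [List.mem_singleton.1 hf]; exact hb
  have hkf := (Bsgs.spec O hfix' hrec).1 k hk l.base (by simp)
  rw [mul_smul, hkf] at h
  obtain ⟨hr1, hr2⟩ := O.pt_img r l.base (hreps r hr) hb
  obtain ⟨ho1, ho2⟩ := O.pt_img O.one l.base O.ok_one hb
  rw [O.val_one, one_smul] at ho1
  have e : O.img r l.base = O.img O.one l.base :=
    O.pt_inj _ _ hr2 ho2 (hr1.symm.trans (h.trans ho1))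
  have hone : O.one ∈ l.reps := List.mem_of_mem_head? (by rw [hhead]; exact rfl)
  rw [List.inj_on_of_nodup_map hnd hr hone e, O.val_one, one_mul]
  exact hk

/-- An element fixing all base points is trivial. -/
theorem eq_one_of_fix : ∀ {ls : List Bsgs.Lvl} {fixed : List ℕ}, (∀ f ∈ fixed, O.ptOk f = true) →
    Bsgs.check O fixed ls = true → ∀ {g : G}, g ∈ Bsgs.grp O ls →
    (∀ l ∈ ls, g • O.pt l.base = O.pt l.base) → g = 1
  | [], _, _, _, g, hg, _ => by
    have h : Bsgs.grp O [] = ⊥ := by simp [Bsgs.grp, Bsgs.allGens]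
    rw [h, Subgroup.mem_bot] at hg
    exact hg
  | l :: ls, fixed, hfix, hc, g, hg, hb => by
    have hg' := mem_next O hfix hc hg (hb l (by simp))
    simp only [Bsgs.check, Bool.and_eq_true, decide_eq_true_eq, List.all_eq_true] at hc
    obtain ⟨⟨⟨⟨⟨⟨⟨⟨hb', -⟩, -⟩, -⟩, -⟩, -⟩, -⟩, -⟩, hrec⟩ := hc
    refine eq_one_of_fix (fixed := fixed ++ [l.base]) (fun f hf => ?_) hrec hg'
      fun m hm => hb m (List.mem_cons_of_mem _ hm)
    rcases List.mem_append.1 hf with hf | hf
    · exact hfix f hf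
    · rw [List.mem_singleton.1 hf]; exact hb'

end General

/-- The group of pairs. -/
def graphGrp : Subgroup Pair := Bsgs.grp O U33Data.levels

theorem graph_spec : Bsgs.Fixes O (Bsgs.grp O U33Data.levels) [] ∧
    (∀ r ∈ Bsgs.allGens U33Data.levels, O.ok r = true) ∧
    (∀ is, O.ok (Bsgs.prodReps O U33Data.levels is) = true ∧
      O.val (Bsgs.prodReps O U33Data.levels is) ∈ Bsgs.grp O U33Data.levels) ∧
    Nat.card (Bsgs.grp O U33Data.levels) = (U33Data.levels.map fun l => l.reps.length).prod :=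
  let h := Bsgs.spec O (fixed := []) (ls := U33Data.levels) (by simp) chain_ok
  ⟨h.1, h.2.1, h.2.2.1, h.2.2.2.1⟩

theorem card_graph : Nat.card graphGrp = 6048 := by rw [graphGrp, graph_spec.2.2.2, chain_card]

theorem snd_injective (g : Pair) (hg : g ∈ graphGrp) (h : g.2 = 1) : g = 1 := by
  refine eq_one_of_fix O (fixed := []) (by simp) chain_ok hg fun l _ => ?_
  show (g.2 : Matrix (Fin 3) (Fin 3) W9).mulVec _ = _
  rw [h]
  exact Matrix.one_mulVec _

/-- The point stabiliser. -/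
def tailGrp : Subgroup (Equiv.Perm (Fin 100)) := Bsgs.grp J2.O J2.levels.tail

theorem card_tailGrp : Nat.card tailGrp = 6048 := by
  have h := (Bsgs.spec J2.O (fixed := [0]) (fun f hf => by
    rw [List.mem_singleton.1 hf]; decide +kernel) J2.tail_ok).2.2.2.1
  rw [tailGrp, h]
  decide +kernel

theorem mem_tailGrp {g : Equiv.Perm (Fin 100)} (hg : g ∈ J2.grpJ2) (h : g • (0 : Fin 100) = 0) :
    g ∈ tailGrp := by
  have e : J2.levels = J2.lvl0 :: J2.levels.tail := rfl
  have hb : J2.O.pt J2.lvl0.base = (0 : Fin 100) := by decide +kernel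
  have hc := J2.levels_ok
  rw [e] at hc
  refine mem_next J2.O (fixed := []) (by simp) hc (by rw [← e]; exact hg) ?_
  rw [hb]; exact h

theorem map_fst : graphGrp.map (MonoidHom.fst _ _) = tailGrp := by
  haveI : Finite tailGrp := Subtype.finite
  refine (Subgroup.eq_of_le_of_card_ge ?_ ?_).symm
  · refine (Subgroup.closure_le _).2 ?_
    rintro _ ⟨r, hr, rfl⟩
    obtain ⟨k, hk, rfl⟩ := List.getElem_of_mem hr
    obtain ⟨hlen, hall⟩ := lift_ok
    have h := List.all_eq_true.1 hall k (List.mem_range.2 (hlen ▸ hk))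
    rw [beq_iff_eq, List.getD_eq_getElem _ _ hk] at h
    obtain ⟨-, hmem⟩ := graph_spec.2.2.1 (U33Data.liftIdx.getD k [])
    refine ⟨_, hmem, ?_⟩
    show J2.O.val _ = J2.O.val _
    exact congrArg (permOf (Equiv.refl (Fin 100))) h
  · rw [card_tailGrp, ← card_graph]
    exact Nat.le_of_dvd Nat.card_pos (Subgroup.card_map_dvd _ _)

theorem mem_unit {g : Pair} (hg : g ∈ graphGrp) : (g.2 : Matrix (Fin 3) (Fin 3) W9) ∈ unitW9 := by
  rw [graphGrp, Bsgs.grp] at hg
  refine Subgroup.closure_induction'' (p := fun (x : Pair) _ => (x.2 : Matrix (Fin 3) (Fin 3) W9) ∈ unitW9)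
    ?_ ?_ ?_ ?_ hg
  · rintro _ ⟨r, hr, rfl⟩
    have h := graph_spec.2.1 r hr
    simp only [O, Bool.and_eq_true, unitB_iff] at h
    show (unitOf (matPart r) : Matrix (Fin 3) (Fin 3) W9) ∈ unitW9
    rw [unitOf_coe h.2]; exact h.2
  · rintro _ ⟨r, hr, rfl⟩
    have h := graph_spec.2.1 r hr
    simp only [O, Bool.and_eq_true, unitB_iff] at h
    have hu : ((O.val r).2 : Matrix (Fin 3) (Fin 3) W9) ∈ unitW9 := by
      show (unitOf (matPart r) : Matrix (Fin 3) (Fin 3) W9) ∈ unitW9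
      rw [unitOf_coe h.2]; exact h.2
    obtain ⟨n, hn⟩ : ∃ n : ℕ, (O.val r)⁻¹ = O.val r ^ n := ⟨orderOf (O.val r) - 1, by
      rw [inv_eq_iff_mul_eq_one, ← pow_succ', Nat.sub_add_cancel (orderOf_pos _), pow_orderOf_eq_one]⟩
    rw [hn, Prod.pow_snd, Units.val_pow_eq_pow_val]
    exact pow_mem hu n
  · exact one_mem _
  · intro x y _ _ hx hy
    exact mul_mem hx hy

theorem tail_equiv_su {F : Type} [Field F] [Fintype F] (hF : Fintype.card F = 9) :
    Nonempty (tailGrp ≃* PSU 3 F 3) := by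
  classical
  obtain ⟨φ, E, -, -, hinj, hE1, hEm, hrange⟩ := CfsgLib.SmallGroups.U33Degrees.exists_coord hF
  have hF' : Fintype.card F = 3 ^ 2 := hF
  have hbot : Subgroup.center (SU 3 F 3) = ⊥ := Subgroup.card_eq_one.1 (by
    rw [CfsgLib.Classical.card_center_su (q := 3) hF' (by norm_num : 2 ≤ 3)]; norm_num)
  have hSU : Nat.card (SU 3 F 3) = 6048 := by
    have h := CfsgLib.Classical.card_su (n := 3) (q := 3) hF' (by norm_num)
    have h2 : CfsgLib.Classical.unitaryOrder 3 3 = 24192 := by decide +kernel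
    omega
  choose f hf using fun g : graphGrp => (hrange _).2 (mem_unit g.2)
  let Ψ : graphGrp →* SU 3 F 3 := MonoidHom.mk' f (fun a b => hinj (by
    rw [hEm, hf, hf, hf]; rfl))
  have hΨ : Function.Injective Ψ := (injective_iff_map_eq_one _).2 fun g hg => by
    refine Subtype.ext (snd_injective g g.2 (Units.ext ?_))
    rw [← hf g, show f g = 1 from hg, hE1]
    rfl
  haveI : Finite (SU 3 F 3) := Nat.finite_of_card_ne_zero (by rw [hSU]; norm_num)
  have hb : Function.Bijective Ψ := hΨ.bijective_of_nat_card_le (by rw [hSU, card_graph])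
  let α : graphGrp →* tailGrp :=
    ((MonoidHom.fst _ _).comp graphGrp.subtype).codRestrict tailGrp fun g => by rw [← map_fst]; exact ⟨g, g.2, rfl⟩
  have hα : Function.Surjective α := fun x => by
    have hx : (x : Equiv.Perm (Fin 100)) ∈ graphGrp.map (MonoidHom.fst _ _) := by rw [map_fst]; exact x.2
    obtain ⟨g, hg, hgx⟩ := hx
    exact ⟨⟨g, hg⟩, Subtype.ext hgx⟩
  have hα' : Function.Bijective α := ⟨(Function.Surjective.bijective_of_nat_card_le hα
    (by rw [card_tailGrp, card_graph])).1, hα⟩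
  exact ⟨(MulEquiv.ofBijective α hα').symm.trans ((MulEquiv.ofBijective Ψ hb).trans
    ((QuotientGroup.quotientBot (G := SU 3 F 3)).symm.trans (QuotientGroup.quotientMulEquivOfEq hbot.symm)))⟩

end CfsgLib.Ico.U33
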