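import Cfsg.Agent.Lib.Ico.LineChecks

/-!
# The action tables of the generating reflections
-/

set_option autoImplicit false
set_option maxRecDepth 100000

namespace CfsgLib.Ico

open CfsgLib.Golay

set_option maxHeartbeats 4000000 in
theorem act_ok0 : (List.range 315).all (actOk 0) = true := by decide +kernel

set_option maxHeartbeats 4000000 in
theorem act_ok1 : (List.range 315).all (actOk 1) = true := by decide +kernel

set_option maxHeartbeats 4000000 in
theorem act_ok2 : (List.range 315).all (actOk 2) = true := by decide +kernel

set_option maxHeartbeats 4000000 in
theorem act_ok3 : (List.range 315).all (actOk 3) = true := by decide +kernel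

end CfsgLib.Ico
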