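import Cfsg.Agent.Lib.Ico.OrbitChecks

/-!
# The matching involutions on 100 points
-/

set_option autoImplicit false
set_option maxRecDepth 100000

namespace CfsgLib.Ico

open CfsgLib.Golay

set_option maxHeartbeats 4000000 in
theorem class_ok : Data.classJ2.length = 315 ∧ Data.classJ2.Nodup ∧ Data.classJ2.all J2.O.ok = true ∧
    Data.classJ2.all (fun c => J2.O.mul c c == J2.O.one) = true := by decide +kernel

set_option maxHeartbeats 4000000 in
theorem class_idx : (List.range 4).all (fun k =>
    invCode (genLine k) == Bsgs.prodReps J2.O J2.levels (Data.genIdx.getD k [])) = true := by decide +kernel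

set_option maxHeartbeats 4000000 in
theorem class_act : (List.range 4).all (fun k => (List.range 315).all fun j =>
    J2.O.mul (invCode (genLine k)) (invCode j) == J2.O.mul (invCode (genImg k j)) (invCode (genLine k))) = true := by
  decide +kernel

set_option maxHeartbeats 4000000 in
theorem class_closed : (Bsgs.allGens J2.levels).length = Data.conjTbl.length ∧
    (List.range Data.conjTbl.length).all (fun m =>
      let row := Data.conjTbl.getD m []
      let g := (Bsgs.allGens J2.levels).getD m 0
      decide (row.length = 315) && row.all (fun i => decide (i < 315)) &&
        (List.range 315).all fun j => J2.O.mul g (invCode j) == J2.O.mul (invCode (row.getD j 0)) g) = true := by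
  decide +kernel

end CfsgLib.Ico
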