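import Cfsg.Agent.Lib.Ico.Ring
import Cfsg.Agent.Lib.Ico.Data

/-!
# Kernel checks: icosians of small norm and minimal vectors in normal form
-/

set_option autoImplicit false
set_option maxRecDepth 100000

namespace CfsgLib.Ico

/-- The Galois conjugate. -/
def conjT (x : ZT) : ZT := (x.1 + x.2, -x.2)

/-- `0 ≤ a + b τ`. -/
def nonnegT (x : ZT) : Bool :=
  let X := 2 * x.1 + x.2
  let Y := x.2
  (decide (0 ≤ X) && decide (0 ≤ Y)) || (decide (0 ≤ X) && decide (5 * Y * Y ≤ X * X)) ||
    (decide (0 ≤ Y) && decide (X * X ≤ 5 * Y * Y))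

/-- Totally non-negative. -/
def tpT (x : ZT) : Bool := nonnegT x && nonnegT (conjT x)

/-- The window containing the small scalars. -/
def boxT : List ZT :=
  (List.range 7).flatMap fun b => (List.range 11).map fun a => ((a : ℤ) - 5, (b : ℤ) - 3)

/-- Scalars of absolute value at most four in both embeddings. -/
def smallT : List ZT := boxT.filter fun x => tpT ((16, 0) - mulT x x)

/-- Halving. -/
def halfT (x : ZT) : ZT := (x.1 / 2, x.2 / 2)

/-- Both components even. -/
def evenT (x : ZT) : Bool := x.1 % 2 == 0 && x.2 % 2 == 0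

/-- The icosians of totally bounded norm four with a given first key. -/
def smallAt (A : ZT) : List Ic :=
    (smallT.filter fun B => tpT ((16, 0) - mulT A A - mulT B B)).flatMap fun B =>
      let c := -sigT A
      let e := -sigT B
      (smallT.filter fun A0 => evenT (A0 + sigT e - c)).flatMap fun A0 =>
        ((smallT.filter fun A1 => evenT (A1 - sigT c - e)).map fun A1 =>
          ((halfT (A0 + sigT e - c), halfT (A1 - sigT c - e), c, e) : Ic)).filter fun q =>
            tpT ((4, 0) - nrmQ q)

/-- All icosians of totally bounded norm four. -/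
def small : List Ic := smallT.flatMap smallAt

/-- The code of a coordinate. -/
def codeZ (a : ℤ) : ℕ := (a + 16).toNat

/-- The code of an icosian with small coordinates. -/
def codeQ : Ic → ℕ
  | ((a, a'), (b, b'), (c, c'), (d, d')) =>
    codeZ a + 32 * (codeZ a' + 32 * (codeZ b + 32 * (codeZ b' + 32 * (codeZ c + 32 * (codeZ c' +
      32 * (codeZ d + 32 * codeZ d'))))))

/-- The coordinate of a code. -/
def decZ (n : ℕ) : ℤ := (n % 32 : ℕ) - 16

/-- The icosian of a code. -/
def decQ (n : ℕ) : Ic :=
  ((decZ n, decZ (n / 32)), (decZ (n / 32 ^ 2), decZ (n / 32 ^ 3)),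
    (decZ (n / 32 ^ 4), decZ (n / 32 ^ 5)), (decZ (n / 32 ^ 6), decZ (n / 32 ^ 7)))

/-- One parity bit. -/
def bitZ (a : ℤ) : ℕ := (a % 2).toNat

/-- The parities of the coordinates. -/
def parQ : Ic → ℕ
  | ((a, a'), (b, b'), (c, c'), (d, d')) =>
    bitZ a + 2 * (bitZ a' + 2 * (bitZ b + 2 * (bitZ b' + 2 * (bitZ c + 2 * (bitZ c' +
      2 * (bitZ d + 2 * bitZ d'))))))

/-- `h`. -/
def hQ : Ic := ((2, -2), (1, 0), (-1, 1), (1, -1))

/-- The conjugate of `h`. -/
def hbQ : Ic := starQ hQ

/-- The residue modulo the left ideal of `h`. -/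
def resQ (q : Ic) : ℕ := parQ (mulQ q hbQ)

/-- The residue modulo the left ideal of the conjugate of `h`. -/
def sumQ (q : Ic) : ℕ := parQ (mulQ q hQ)

/-- The bucket of an icosian. -/
def bucketOf (q : Ic) : ℕ := Data.norms.idxOf (nrmQ q) * 16 + Data.residues.idxOf (resQ q)

/-- The entry of an icosian in its bucket. -/
def entryOf (q : Ic) : ℕ := codeQ q + 1099511627776 * sumQ q

/-- The check of one enumerated icosian against its certificate. -/
def okEntry (q : Ic) (c : ℕ) : Bool :=
  let p := c % 2048
  let b := c / 2048 % 256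
  let k := c / 524288 % 64
  let u := c / 33554432
  decide (decQ (codeQ q) = q) && bucketOf q == b && Data.norms.contains (nrmQ q) &&
    Data.residues.contains (resQ q) && (Data.buckets.getD b []).getD p 0 == entryOf q &&
    decide (p < (Data.buckets.getD b []).length) &&
    (if k == 51 then decide (q = 0) else
      decide (k < 51) && decide (u < 120) &&
        decide (q = mulQ (decQ (Data.units.getD u 0)) (decQ (Data.reps.getD k 0))))

/-- The check along the enumeration. -/
def okAll : List Ic → List ℕ → Bool
  | [], [] => true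
  | q :: qs, c :: cs => okEntry q c && okAll qs cs
  | _, _ => false

end CfsgLib.Ico
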