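import Cfsg.Agent.Lib.Ico.Lattice
import Cfsg.Agent.Lib.Ico.Data2

/-!
# A spanning set of the icosian lattice, from its parity code
-/

set_option autoImplicit false
set_option maxRecDepth 100000

namespace CfsgLib.Ico

/-- The parities of a vector. -/
def parV (v : IV) : ℕ := parQ v.1 + 256 * (parQ v.2.1 + 256 * parQ v.2.2)

/-- The icosian with given parities. -/
def bitsQ (n : ℕ) : Ic :=
  (((n % 2 : ℕ), (n / 2 % 2 : ℕ)), ((n / 4 % 2 : ℕ), (n / 8 % 2 : ℕ)), ((n / 16 % 2 : ℕ), (n / 32 % 2 : ℕ)),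
    ((n / 64 % 2 : ℕ), (n / 128 % 2 : ℕ)))

/-- The vector with given parities. -/
def bitsV (n : ℕ) : IV := (bitsQ n, bitsQ (n / 256), bitsQ (n / 65536))

/-- The systematic generators of the parity code. -/
def codeGens : List IV := Data.codeBasis.map bitsV

theorem parQ_lt (q : Ic) : parQ q < 256 := by
  obtain ⟨⟨a0, a1⟩, ⟨a2, a3⟩, ⟨a4, a5⟩, ⟨a6, a7⟩⟩ := q
  have h0 := bitZ_lt a0; have h1 := bitZ_lt a1; have h2 := bitZ_lt a2; have h3 := bitZ_lt a3
  have h4 := bitZ_lt a4; have h5 := bitZ_lt a5; have h6 := bitZ_lt a6; have h7 := bitZ_lt a7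
  simp only [parQ]
  omega

theorem parQ_bitsQ (q : Ic) : IsEvenQ (q - bitsQ (parQ q)) := by
  rw [← parQ_eq_iff]
  have h : ∀ n < 256, parQ (bitsQ n) = n := by decide +kernel
  rw [h _ (parQ_lt q)]

theorem parV_parts (v : IV) :
    parQ v.1 = parV v % 256 ∧ parQ v.2.1 = parV v / 256 % 256 ∧ parQ v.2.2 = parV v / 65536 := by
  have := parQ_lt v.1; have := parQ_lt v.2.1; have := parQ_lt v.2.2
  simp only [parV]
  omega

theorem parV_bitsV (n : ℕ) (hn : n < 16777216) : parV (bitsV n) = n := by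
  have h : ∀ k < 256, parQ (bitsQ k) = k := by decide +kernel
  have hb : ∀ k : ℕ, bitsQ k = bitsQ (k % 256) := fun k => by
    simp only [bitsQ, Prod.ext_iff, Nat.cast_inj]; omega
  simp only [parV, bitsV]
  rw [hb n, hb (n / 256), hb (n / 65536), h _ (Nat.mod_lt _ (by norm_num)), h _ (Nat.mod_lt _ (by norm_num)),
    h _ (Nat.mod_lt _ (by norm_num))]
  omega

theorem inL_congr {v w : IV} (h : parV v = parV w) : inL v = inL w := by
  have hr : ∀ (c : Ic) {a b : Ic}, parQ a = parQ b → parQ (mulQ a c) = parQ (mulQ b c) := by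
    intro c a b hab
    rw [parQ_eq_iff] at hab ⊢
    obtain ⟨p, hp⟩ := hab
    exact ⟨mulQ p c, by rw [← mulQ_sub_left, hp, mulQ_add_left]⟩
  obtain ⟨a1, a2, a3⟩ := parV_parts v
  obtain ⟨b1, b2, b3⟩ := parV_parts w
  have e1 : parQ v.1 = parQ w.1 := by rw [a1, b1, h]
  have e2 : parQ v.2.1 = parQ w.2.1 := by rw [a2, b2, h]
  have e3 : parQ v.2.2 = parQ w.2.2 := by rw [a3, b3, h]
  simp only [inL, resQ, sumQ, hr _ e1, hr _ e2, hr _ e3]

theorem xor_digit (i m j n : ℕ) (hi : i < 256) (hj : j < 256) :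
    Nat.xor (i + 256 * m) (j + 256 * n) = Nat.xor i j + 256 * Nat.xor m n := by
  refine Nat.eq_of_testBit_eq fun k => ?_
  show (i + 256 * m ^^^ j + 256 * n).testBit k = ((i ^^^ j) + 256 * (m ^^^ n)).testBit k
  have hij : i ^^^ j < 2 ^ 8 := Nat.xor_lt_two_pow hi hj
  rw [Nat.testBit_xor, show i + 256 * m = 2 ^ 8 * m + i by ring, show j + 256 * n = 2 ^ 8 * n + j by ring,
    show (i ^^^ j) + 256 * (m ^^^ n) = 2 ^ 8 * (m ^^^ n) + (i ^^^ j) by ring,
    Nat.testBit_two_pow_mul_add _ hi, Nat.testBit_two_pow_mul_add _ hj, Nat.testBit_two_pow_mul_add _ hij]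
  split_ifs <;> simp [Nat.testBit_xor]

theorem parV_add (v w : IV) : parV (v + w) = Nat.xor (parV v) (parV w) := by
  simp only [parV, Prod.fst_add, Prod.snd_add]
  rw [xor_digit _ _ _ _ (parQ_lt _) (parQ_lt _), xor_digit _ _ _ _ (parQ_lt _) (parQ_lt _), parQ_add, parQ_add,
    parQ_add]

theorem parV_neg (v : IV) : parV (-v) = parV v := by
  have h : ∀ a : Ic, parQ (-a) = parQ a := fun a => by
    rw [parQ_eq_iff]; exact ⟨-a, by abel⟩
  simp [parV, h]

theorem inL_add {v w : IV} (hv : inL v = true) (hw : inL w = true) : inL (v + w) = true := by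
  have x4 : ∀ a b c a' b' c' : Ic, Nat.xor (sumQ (a + a')) (Nat.xor (sumQ (b + b')) (sumQ (c + c'))) =
      Nat.xor (Nat.xor (sumQ a) (Nat.xor (sumQ b) (sumQ c))) (Nat.xor (sumQ a') (Nat.xor (sumQ b') (sumQ c'))) := by
    intro a b c a' b' c'
    simp only [sumQ, parQ_add, ← mulQ_add_left]
    exact congrArg (fun q => parQ (mulQ q hQ))
      (show a + a' + (b + b' + (c + c')) = a + (b + c) + (a' + (b' + c')) by abel)
  simp only [inL, Bool.and_eq_true, beq_iff_eq] at hv hw ⊢
  refine ⟨⟨?_, ?_⟩, ?_⟩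
  · simp only [resQ, Prod.fst_add, Prod.snd_add, mulQ_add_left, ← parQ_add]
    rw [show parQ (mulQ v.1 hbQ) = parQ (mulQ v.2.1 hbQ) from hv.1.1,
      show parQ (mulQ w.1 hbQ) = parQ (mulQ w.2.1 hbQ) from hw.1.1]
  · simp only [resQ, Prod.fst_add, Prod.snd_add, mulQ_add_left, ← parQ_add]
    rw [show parQ (mulQ v.2.1 hbQ) = parQ (mulQ v.2.2 hbQ) from hv.1.2,
      show parQ (mulQ w.2.1 hbQ) = parQ (mulQ w.2.2 hbQ) from hw.1.2]
  · simp only [Prod.fst_add, Prod.snd_add, x4, hv.2, hw.2]
    rfl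

/-- One step of the reduction. -/
def reduceStep (n : ℕ) (pg : ℕ × ℕ) : ℕ := if n.testBit pg.1 then Nat.xor n pg.2 else n

/-- The reduction of parities. -/
def reducePar (n : ℕ) : ℕ := (Data.pivots.zip Data.codeBasis).foldl reduceStep n

theorem basis_ok : codeGens.all inL = true ∧ Data.codeBasis.all (fun n => decide (n < 16777216)) = true := by
  decide +kernel

theorem code_ok : Data.pivots = List.range 12 ∧
    (List.range 4096).all (fun k => k == 0 || !inL (bitsV (4096 * k))) = true ∧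
    (Data.pivots.zip Data.codeBasis).all (fun pg => (List.range 12).all fun q => pg.2.testBit q == (q == pg.1)) = true := by
  decide +kernel

theorem reduce_low {n : ℕ} {L : List (ℕ × ℕ)} (hL : ∀ pg ∈ L, ∀ q < 12, pg.2.testBit q = (q == pg.1))
    (hnd : (L.map (·.1)).Nodup) :
    ∀ q < 12, (L.foldl reduceStep n).testBit q = (n.testBit q && !(L.map (·.1)).contains q) := by
  induction L generalizing n with
  | nil => intro q _; simp
  | cons pg L ih =>
    intro q hq
    rw [List.map_cons, List.nodup_cons] at hnd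
    rw [List.foldl_cons, ih (fun r hr => hL r (List.mem_cons_of_mem _ hr)) hnd.2 q hq, List.map_cons,
      List.contains_cons]
    have hg := hL pg List.mem_cons_self q hq
    unfold reduceStep
    by_cases hp : n.testBit pg.1
    · rw [if_pos hp, show Nat.xor n pg.2 = n ^^^ pg.2 from rfl, Nat.testBit_xor, hg]
      by_cases he : q = pg.1
      · subst he; simp [hp]
      · simp [he, beq_eq_false_iff_ne.2 he]
    · rw [if_neg hp]
      by_cases he : q = pg.1
      · subst he; simp [hp]
      · simp [he, beq_eq_false_iff_ne.2 he]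

/-- The lattice is spanned by the doubles and the code generators. -/
theorem mem_of_inL (H : AddSubgroup IV) (h2 : ∀ w : IV, w + w ∈ H) (hg : ∀ g ∈ codeGens, g ∈ H) {v : IV}
    (hv : inL v = true) : v ∈ H := by
  have step : ∀ (L : List (ℕ × ℕ)), (∀ pg ∈ L, pg.2 ∈ Data.codeBasis) → ∀ v : IV, inL v = true →
      ∃ w, inL w = true ∧ v - w ∈ H ∧ parV w = L.foldl reduceStep (parV v) := by
    intro L
    induction L with
    | nil => intro _ v hv; exact ⟨v, hv, by rw [sub_self]; exact H.zero_mem, rfl⟩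
    | cons pg L ih =>
      intro hL v hv
      have hmem := hL pg List.mem_cons_self
      have hlt : pg.2 < 16777216 := by
        have := List.all_eq_true.1 basis_ok.2 _ hmem; simpa using this
      have hin : inL (bitsV pg.2) = true := List.all_eq_true.1 basis_ok.1 _ (List.mem_map_of_mem hmem)
      by_cases hb : (parV v).testBit pg.1
      · have hsum : inL (v + bitsV pg.2) = true := inL_add hv hin
        obtain ⟨w, w1, w2, w3⟩ := ih (fun r hr => hL r (List.mem_cons_of_mem _ hr)) _ hsum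
        refine ⟨w, w1, ?_, ?_⟩
        · have : v - w = (v + bitsV pg.2 - w) - bitsV pg.2 := by abel
          rw [this]
          exact H.sub_mem w2 (hg _ (List.mem_map_of_mem hmem))
        · rw [w3, List.foldl_cons, parV_add, parV_bitsV _ hlt, reduceStep, if_pos hb]
      · obtain ⟨w, w1, w2, w3⟩ := ih (fun r hr => hL r (List.mem_cons_of_mem _ hr)) v hv
        exact ⟨w, w1, w2, by rw [w3, List.foldl_cons, reduceStep, if_neg hb]⟩
  obtain ⟨w, hw, hvw, hpar⟩ := step (Data.pivots.zip Data.codeBasis) (fun pg h => (List.of_mem_zip h).2) v hv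
  obtain ⟨hpiv, hzero, hbit⟩ := code_ok
  have hlow := reduce_low (n := parV v) (L := Data.pivots.zip Data.codeBasis)
    (fun pg h q hq => by
      have := List.all_eq_true.1 (List.all_eq_true.1 hbit pg h) q (List.mem_range.2 hq)
      simpa using this)
    (by rw [List.map_fst_zip (by decide +kernel)]; rw [hpiv]; exact List.nodup_range)
  rw [← hpar, List.map_fst_zip (by decide +kernel), hpiv] at hlow
  have hlt : parV w < 16777216 := by
    have := parQ_lt w.1; have := parQ_lt w.2.1; have := parQ_lt w.2.2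
    simp only [parV]; omega
  have hdiv : parV w % 4096 = 0 := by
    refine Nat.eq_of_testBit_eq fun q => ?_
    rw [show 4096 = 2 ^ 12 from rfl, Nat.testBit_mod_two_pow, Nat.zero_testBit]
    by_cases hq : q < 12
    · rw [hlow q hq]; simp [hq]
    · simp [hq]
  have h0 : parV w = 0 := by
    have h := List.all_eq_true.1 hzero (parV w / 4096) (List.mem_range.2 (by omega))
    have e : 4096 * (parV w / 4096) = parV w := by omega
    rw [e, inL_congr (parV_bitsV _ hlt), hw] at h
    simp at h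
    omega
  obtain ⟨a1, a2, a3⟩ := parV_parts w
  rw [h0] at a1 a2 a3
  have ev : ∀ q : Ic, parQ q = 0 → IsEvenQ q := fun q hq => by
    have := (parQ_eq_iff q 0).1 hq; rwa [sub_zero] at this
  obtain ⟨p1, e1⟩ := ev _ a1
  obtain ⟨p2, e2⟩ := ev _ a2
  obtain ⟨p3, e3⟩ := ev _ a3
  have : v = (v - w) + w := by abel
  rw [this]
  refine H.add_mem hvw ?_
  rw [show w = (p1, p2, p3) + (p1, p2, p3) from Prod.ext e1 (Prod.ext e2 e3)]
  exact h2 _

end CfsgLib.Ico
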