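import Cfsg.Agent.Lib.Ico.Enum

/-!
# The icosian lattice in coordinates
-/

set_option autoImplicit false

noncomputable section

namespace CfsgLib.Ico

open Cfsg.Spor Quaternion

/-- A vector of three icosians. -/
abbrev IV : Type := Ic × Ic × Ic

/-- The quaternion vector of a triple. -/
def psi (v : IV) : Fin 3 → ℍ[ℝ] := ![phi v.1, phi v.2.1, phi v.2.2]

theorem psi_injective : Function.Injective psi := by
  intro v w h
  exact Prod.ext (phi_injective (congrFun h 0))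
    (Prod.ext (phi_injective (congrFun h 1)) (phi_injective (congrFun h 2)))

/-- The twofold of an icosian. -/
def IsEvenQ (q : Ic) : Prop := ∃ p, q = p + p

theorem digit {i j m n : ℕ} (hi : i < 2) (hj : j < 2) (h : i + 2 * m = j + 2 * n) : i = j ∧ m = n := by omega

theorem bitZ_lt' (a : ℤ) : bitZ a < 2 := by simp only [bitZ]; omega

theorem bitZ_eq_iff (a b : ℤ) : bitZ a = bitZ b ↔ ∃ p, a - b = p + p := by
  simp only [bitZ]
  constructor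
  · intro h; exact ⟨(a - b) / 2, by omega⟩
  · rintro ⟨p, hp⟩; omega

theorem parQ_eq_iff (a b : Ic) : parQ a = parQ b ↔ IsEvenQ (a - b) := by
  obtain ⟨⟨a0, a1⟩, ⟨a2, a3⟩, ⟨a4, a5⟩, ⟨a6, a7⟩⟩ := a
  obtain ⟨⟨b0, b1⟩, ⟨b2, b3⟩, ⟨b4, b5⟩, ⟨b6, b7⟩⟩ := b
  constructor
  · intro h
    simp only [parQ] at h
    obtain ⟨e0, h⟩ := digit (bitZ_lt' _) (bitZ_lt' _) h
    obtain ⟨e1, h⟩ := digit (bitZ_lt' _) (bitZ_lt' _) h
    obtain ⟨e2, h⟩ := digit (bitZ_lt' _) (bitZ_lt' _) h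
    obtain ⟨e3, h⟩ := digit (bitZ_lt' _) (bitZ_lt' _) h
    obtain ⟨e4, h⟩ := digit (bitZ_lt' _) (bitZ_lt' _) h
    obtain ⟨e5, h⟩ := digit (bitZ_lt' _) (bitZ_lt' _) h
    obtain ⟨e6, e7⟩ := digit (bitZ_lt' _) (bitZ_lt' _) h
    obtain ⟨p0, q0⟩ := (bitZ_eq_iff _ _).1 e0
    obtain ⟨p1, q1⟩ := (bitZ_eq_iff _ _).1 e1
    obtain ⟨p2, q2⟩ := (bitZ_eq_iff _ _).1 e2
    obtain ⟨p3, q3⟩ := (bitZ_eq_iff _ _).1 e3
    obtain ⟨p4, q4⟩ := (bitZ_eq_iff _ _).1 e4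
    obtain ⟨p5, q5⟩ := (bitZ_eq_iff _ _).1 e5
    obtain ⟨p6, q6⟩ := (bitZ_eq_iff _ _).1 e6
    obtain ⟨p7, q7⟩ := (bitZ_eq_iff _ _).1 e7
    exact ⟨((p0, p1), (p2, p3), (p4, p5), (p6, p7)),
      Prod.ext (Prod.ext q0 q1) (Prod.ext (Prod.ext q2 q3) (Prod.ext (Prod.ext q4 q5) (Prod.ext q6 q7)))⟩
  · rintro ⟨⟨⟨p0, p1⟩, ⟨p2, p3⟩, ⟨p4, p5⟩, ⟨p6, p7⟩⟩, h⟩
    simp only [parQ]
    rw [(bitZ_eq_iff a0 b0).2 ⟨p0, congrArg (fun q : Ic => q.1.1) h⟩,
      (bitZ_eq_iff a1 b1).2 ⟨p1, congrArg (fun q : Ic => q.1.2) h⟩,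
      (bitZ_eq_iff a2 b2).2 ⟨p2, congrArg (fun q : Ic => q.2.1.1) h⟩,
      (bitZ_eq_iff a3 b3).2 ⟨p3, congrArg (fun q : Ic => q.2.1.2) h⟩,
      (bitZ_eq_iff a4 b4).2 ⟨p4, congrArg (fun q : Ic => q.2.2.1.1) h⟩,
      (bitZ_eq_iff a5 b5).2 ⟨p5, congrArg (fun q : Ic => q.2.2.1.2) h⟩,
      (bitZ_eq_iff a6 b6).2 ⟨p6, congrArg (fun q : Ic => q.2.2.2.1) h⟩,
      (bitZ_eq_iff a7 b7).2 ⟨p7, congrArg (fun q : Ic => q.2.2.2.2) h⟩]

theorem bit_step (i j m n : ℕ) (hi : i < 2) (hj : j < 2) :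
    Nat.xor (i + 2 * m) (j + 2 * n) = (i + j) % 2 + 2 * Nat.xor m n := by
  interval_cases i <;> interval_cases j
  · have := Nat.xor_bit false m false n; simpa [Nat.bit] using this
  · have := Nat.xor_bit false m true n; simp [Nat.bit] at this; simpa [Nat.add_comm] using this
  · have := Nat.xor_bit true m false n; simp [Nat.bit] at this; simpa [Nat.add_comm] using this
  · have := Nat.xor_bit true m true n; simp [Nat.bit] at this; simpa [Nat.add_comm] using this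

theorem bitZ_add (a b : ℤ) : (bitZ a + bitZ b) % 2 = bitZ (a + b) := by
  simp only [bitZ]; omega

theorem bitZ_lt (a : ℤ) : bitZ a < 2 := by
  simp only [bitZ]; omega

theorem parQ_add (a b : Ic) : Nat.xor (parQ a) (parQ b) = parQ (a + b) := by
  obtain ⟨⟨a0, a1⟩, ⟨a2, a3⟩, ⟨a4, a5⟩, ⟨a6, a7⟩⟩ := a
  obtain ⟨⟨b0, b1⟩, ⟨b2, b3⟩, ⟨b4, b5⟩, ⟨b6, b7⟩⟩ := b
  simp only [parQ, Prod.mk_add_mk]
  rw [bit_step _ _ _ _ (bitZ_lt _) (bitZ_lt _), bit_step _ _ _ _ (bitZ_lt _) (bitZ_lt _),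
    bit_step _ _ _ _ (bitZ_lt _) (bitZ_lt _), bit_step _ _ _ _ (bitZ_lt _) (bitZ_lt _),
    bit_step _ _ _ _ (bitZ_lt _) (bitZ_lt _), bit_step _ _ _ _ (bitZ_lt _) (bitZ_lt _),
    bit_step _ _ _ _ (bitZ_lt _) (bitZ_lt _)]
  have h7 : Nat.xor (bitZ a7) (bitZ b7) = bitZ (a7 + b7) := by
    have := bit_step (bitZ a7) (bitZ b7) 0 0 (bitZ_lt _) (bitZ_lt _)
    simpa [bitZ_add] using this
  simp only [bitZ_add, h7]

theorem parQ_zero : parQ 0 = 0 := rfl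

theorem phi_hQ : phi hQ = icoH := by
  ext <;> simp [hQ, icoH, valT, tau, sig] <;> ring_nf <;> grind [sqrt_five_sq]

theorem phi_hbQ : phi hbQ = star icoH := by rw [hbQ, phi_starQ, phi_hQ]

theorem icoH_norm : icoH * star icoH = (2 : ℍ[ℝ]) := by
  rw [← phi_hQ, phi_mul_star, show nrmQ hQ = (2, 0) by decide]
  norm_num [valT]
  rfl

theorem star_icoH_norm : star icoH * icoH = (2 : ℍ[ℝ]) := by
  rw [← phi_hQ, ← phi_starQ, ← phi_mulQ, show mulQ (starQ hQ) hQ = scal (2, 0) by decide, phi_scal]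
  norm_num [valT]
  rfl

theorem mem_leftIdeal_iff {g : ℍ[ℝ]} {G : Ic} {q : ℍ[ℝ]} (hG : phi G = g) (hq : q * g = 2) (hq' : g * q = 2)
    (p : Ic) : phi p ∈ leftIdeal q ↔ IsEvenQ (mulQ p G) := by
  constructor
  · rintro ⟨a, ha, h⟩
    obtain ⟨a', rfl⟩ := mem_icosians.1 ha
    refine ⟨a', phi_injective ?_⟩
    rw [phi_mulQ, h, hG, mul_assoc, hq, phi_add, mul_two]
  · rintro ⟨a, h⟩
    refine ⟨phi a, phi_mem a, ?_⟩
    have h' : phi p * g = phi a + phi a := by rw [← hG, ← phi_mulQ, h, phi_add]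
    have h2 : phi p * g * q = (phi a + phi a) * q := by rw [h']
    rw [mul_assoc, hq', mul_two, add_mul] at h2
    have h3 : (2 : ℝ) • phi p = (2 : ℝ) • (phi a * q) := by rw [two_smul, two_smul]; exact h2
    exact smul_right_injective _ (by norm_num : (2 : ℝ) ≠ 0) h3

theorem mem_idealH (p : Ic) : phi p ∈ leftIdeal icoH ↔ IsEvenQ (mulQ p hbQ) :=
  mem_leftIdeal_iff phi_hbQ icoH_norm star_icoH_norm p

theorem mem_idealHb (p : Ic) : phi p ∈ leftIdeal (star icoH) ↔ IsEvenQ (mulQ p hQ) :=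
  mem_leftIdeal_iff phi_hQ star_icoH_norm icoH_norm p

theorem mulQ_add_left (p q r : Ic) : mulQ (p + q) r = mulQ p r + mulQ q r :=
  phi_injective (by rw [phi_mulQ, phi_add, phi_add, phi_mulQ, phi_mulQ, add_mul])

theorem mulQ_sub_left (p q r : Ic) : mulQ (p - q) r = mulQ p r - mulQ q r :=
  phi_injective (by rw [phi_mulQ, phi_sub, phi_sub, phi_mulQ, phi_mulQ, sub_mul])

theorem mulQ_zero_left (r : Ic) : mulQ 0 r = 0 :=
  phi_injective (by rw [phi_mulQ, phi_zero, zero_mul])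

/-- The membership test for the lattice. -/
def inL (v : IV) : Bool :=
  resQ v.1 == resQ v.2.1 && resQ v.2.1 == resQ v.2.2 &&
    Nat.xor (sumQ v.1) (Nat.xor (sumQ v.2.1) (sumQ v.2.2)) == 0

theorem psi_mem_iff (v : IV) : psi v ∈ icoLeech ↔ inL v = true := by
  obtain ⟨x, y, z⟩ := v
  have key : Nat.xor (sumQ x) (Nat.xor (sumQ y) (sumQ z)) = parQ (mulQ (x + (y + z)) hQ) := by
    simp only [sumQ, parQ_add, mulQ_add_left]
  have e : ∀ q : Ic, IsEvenQ q ↔ parQ q = 0 := fun q => by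
    rw [← parQ_zero, parQ_eq_iff, sub_zero]
  simp only [inL, Bool.and_eq_true, beq_iff_eq, key, ← e, resQ, parQ_eq_iff, ← mulQ_sub_left, ← mem_idealH,
    ← mem_idealHb]
  simp only [icoLeech, Set.mem_ofPred_eq, psi, Matrix.cons_val_zero, Matrix.cons_val_one, Matrix.cons_val_two,
    Matrix.tail_cons, Matrix.head_cons, phi_sub, phi_add, add_assoc]
  refine ⟨fun h => ⟨⟨h.2.1, h.2.2.1⟩, h.2.2.2⟩, fun h => ⟨?_, h.1.1, h.1.2, h.2⟩⟩
  intro t
  fin_cases t <;> exact phi_mem _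

theorem exists_psi {w : Fin 3 → ℍ[ℝ]} (hw : w ∈ icoLeech) : ∃ v : IV, psi v = w ∧ inL v = true := by
  obtain ⟨a, ha⟩ := mem_icosians.1 (hw.1 0)
  obtain ⟨b, hb⟩ := mem_icosians.1 (hw.1 1)
  obtain ⟨c, hc⟩ := mem_icosians.1 (hw.1 2)
  have h : psi (a, b, c) = w := by
    funext t
    fin_cases t
    exacts [ha, hb, hc]
  exact ⟨_, h, (psi_mem_iff _).1 (h ▸ hw)⟩

theorem psi_add (v w : IV) : psi (v + w) = psi v + psi w := by
  funext t; fin_cases t <;> simp [psi, phi_add]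

theorem psi_neg (v : IV) : psi (-v) = -psi v := by
  funext t; fin_cases t <;> simp [psi, phi_neg]

theorem psi_zero : psi 0 = 0 := by
  funext t; fin_cases t <;> simp [psi, phi_zero]

/-- Left multiplication by a scalar. -/
def smulV (q : Ic) (v : IV) : IV := (mulQ q v.1, mulQ q v.2.1, mulQ q v.2.2)

theorem psi_smulV (q : Ic) (v : IV) : psi (smulV q v) = fun t => phi q * psi v t := by
  funext t; fin_cases t <;> simp [psi, smulV, phi_mulQ]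

/-- The hermitian product. -/
def ipV (v w : IV) : Ic := mulQ v.1 (starQ w.1) + (mulQ v.2.1 (starQ w.2.1) + mulQ v.2.2 (starQ w.2.2))

theorem qip_psi (v w : IV) : qip (psi v) (psi w) = phi (ipV v w) := by
  simp [qip, psi, ipV, Fin.sum_univ_three, phi_add, phi_mulQ, phi_starQ, add_assoc]

theorem ipV_self (v : IV) : ipV v v = scal (nrmQ v.1 + (nrmQ v.2.1 + nrmQ v.2.2)) := by
  rw [ipV, mulQ_starQ, mulQ_starQ, mulQ_starQ]
  simp [scal]

/-- The norm four condition. -/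
theorem qip_self_eq_four (v : IV) :
    qip (psi v) (psi v) = 4 ↔ nrmQ v.1 + (nrmQ v.2.1 + nrmQ v.2.2) = (4, 0) := by
  rw [qip_psi, ipV_self, phi_scal, show (4 : ℍ[ℝ]) = ((valT (4, 0) : ℝ) : ℍ[ℝ]) by norm_num [valT]; rfl,
    Quaternion.coe_inj, valT_injective.eq_iff]

/-- Halving the coordinates. -/
def halfQ (q : Ic) : Ic := (halfT q.1, halfT q.2.1, halfT q.2.2.1, halfT q.2.2.2)

theorem halfQ_double (q : Ic) : halfQ (q + q) = q := by
  obtain ⟨⟨a0, a1⟩, ⟨a2, a3⟩, ⟨a4, a5⟩, ⟨a6, a7⟩⟩ := q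
  simp only [halfQ, halfT, Prod.ext_iff, Prod.fst_add, Prod.snd_add]
  omega

/-- The reflection in coordinates. -/
def reflV (r x : IV) : IV := x - smulV (halfQ (ipV x r)) r

theorem qrefl_psi {r x : IV} (h : IsEvenQ (ipV x r)) : qrefl (psi r) (psi x) = psi (reflV r x) := by
  obtain ⟨c, hc⟩ := h
  have e : psi (reflV r x) = psi x - fun t => phi c * psi r t := by
    rw [reflV, hc, halfQ_double, sub_eq_add_neg, psi_add, psi_neg, psi_smulV, sub_eq_add_neg]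
  funext t
  rw [e, qrefl, qip_psi, hc, phi_add, ← two_smul ℝ (phi c), smul_smul]
  norm_num

end CfsgLib.Ico
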