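import Cfsg.Agent.Lib.Ico.Reflect
import Cfsg.Agent.Lib.Golay.J2Check

/-!
# Kernel checks on the 315 lines and the matching involutions on 100 points
-/

set_option autoImplicit false
set_option maxRecDepth 100000

namespace CfsgLib.Ico

open CfsgLib.Golay

instance icDecEq : DecidableEq Ic := inferInstance

instance ivDecEq : DecidableEq IV := inferInstance

/-- The `k`-th generating line. -/
def genLine (k : ℕ) : ℕ := Data.genLines.getD k 0

/-- The action table of the `k`-th generator. -/
def actTbl (k : ℕ) : List ℕ := [Data.act0, Data.act1, Data.act2, Data.act3].getD k []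

/-- The image line under a generator. -/
def genImg (k j : ℕ) : ℕ := (actTbl k).getD j 0 / 128

/-- The check of one table entry. -/
def actOk (k j : ℕ) : Bool :=
  let c := (actTbl k).getD j 0
  decide (c % 128 < 120) && decide (c / 128 < 315) &&
    decide (reflV (lineV (genLine k)) (lineV j) = smulV (unitQ (c % 128)) (lineV (c / 128)))

set_option maxHeartbeats 4000000 in
theorem gen_root : (List.range 4).all (fun k => decide (genLine k < 315) && rootTest (lineV (genLine k))) = true := by
  decide +kernel

/-- The representative code at the head of a line. -/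
def headCode (j : ℕ) : ℕ :=
  if (lineV j).1 = 0 then (if (lineV j).2.1 = 0 then codeQ (lineV j).2.2 else codeQ (lineV j).2.1)
  else codeQ (lineV j).1

set_option maxHeartbeats 4000000 in
theorem line_ok : (List.range 315).all (fun j => inL (lineV j) &&
    decide (nrmQ (lineV j).1 + (nrmQ (lineV j).2.1 + nrmQ (lineV j).2.2) = (4, 0)) &&
    Data.reps.contains (headCode j) &&
    decide (decQ (codeQ (lineV j).1) = (lineV j).1) && decide (decQ (codeQ (lineV j).2.1) = (lineV j).2.1) &&
    decide (decQ (codeQ (lineV j).2.2) = (lineV j).2.2)) = true := by decide +kernel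

set_option maxHeartbeats 4000000 in
theorem lines_nodup : Data.lines.Nodup ∧ (List.range 315).all (fun j =>
    Data.lines.getD j 0 == codeV (codeQ (lineV j).1) (codeQ (lineV j).2.1) (codeQ (lineV j).2.2)) = true := by
  decide +kernel

set_option maxHeartbeats 4000000 in
theorem reps_dec : Data.reps.all (fun c => codeQ (decQ c) == c) = true := by decide +kernel

set_option maxHeartbeats 4000000 in
theorem search_ok : Data.lineOrder.length = 315 ∧ Data.lineParent.length = 314 ∧
    (List.range 315).all (fun j => Data.lineOrder.contains j) = true ∧
    Data.lineOrder.getD 0 0 = genLine 0 ∧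
    (List.range 314).all (fun m =>
      let c := Data.lineParent.getD m (0, 0)
      decide (c.1 < 4) && decide (c.2 ≤ m) &&
        Data.lineOrder.getD (m + 1) 0 == genImg c.1 (Data.lineOrder.getD c.2 0)) = true := by decide +kernel

/-- The involution matched with a line. -/
def invCode (j : ℕ) : ℕ := Data.classJ2.getD j 0

/-- The first test line. -/
def testA : ℕ := Data.testLines.getD 0 0

/-- The second test line. -/
def testB : ℕ := Data.testLines.getD 1 0

/-- A test line scaled to first entry one. -/
def testV (j : ℕ) : IV := smulV (starQ (lineV j).1) (lineV j)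

set_option maxHeartbeats 4000000 in
theorem scalar_ok : testA < 315 ∧ testB < 315 ∧ (testV testA).1 = ((1, 0), 0, 0, 0) ∧
    (testV testB).1 = ((1, 0), 0, 0, 0) ∧ (testV testA).2.1 ≠ 0 ∧ (testV testA).2.2 ≠ 0 ∧
    (List.range 120).all (fun i => unitQ i == scal (1, 0) || unitQ i == scal (-1, 0) ||
      decide (mulQ (mulQ (mulQ (testV testB).2.1 (starQ (testV testA).2.1)) (unitQ i)) (testV testA).2.1 ≠
        mulQ (scal (nrmQ (testV testA).2.1)) (mulQ (unitQ i) (testV testB).2.1))) = true := by decide +kernel

end CfsgLib.Ico
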