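import Cfsg.Agent.Lib.Ico.ClassChecks

/-!
# The reflection group of the icosian lattice on the 315 lines
-/

set_option autoImplicit false

noncomputable section

namespace CfsgLib.Ico

open Cfsg.Spor Quaternion

theorem line_spec {j : ℕ} (hj : j < 315) :
    inL (lineV j) = true ∧ qip (psi (lineV j)) (psi (lineV j)) = 4 ∧ headCode j ∈ Data.reps ∧
      decQ (codeQ (lineV j).1) = (lineV j).1 ∧ decQ (codeQ (lineV j).2.1) = (lineV j).2.1 ∧
      decQ (codeQ (lineV j).2.2) = (lineV j).2.2 := by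
  have h := List.all_eq_true.1 line_ok j (List.mem_range.2 hj)
  simp only [Bool.and_eq_true, decide_eq_true_eq, List.contains_iff_mem] at h
  obtain ⟨⟨⟨⟨⟨h1, h2⟩, h3⟩, h4⟩, h5⟩, h6⟩ := h
  exact ⟨h1, (qip_self_eq_four _).2 h2, h3, h4, h5, h6⟩

/-- The `j`-th line as a point. -/
def linePt (j : Fin 315) : Pt := mkPt (lineV j) (line_spec j.isLt).1

theorem qip_linePt (j : Fin 315) : qip (linePt j : Fin 3 → ℍ[ℝ]) (linePt j) = 4 := (line_spec j.isLt).2.1

theorem mkPt_injective {v w : IV} {h : inL v = true} {h' : inL w = true} (e : mkPt v h = mkPt w h') : v = w :=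
  psi_injective (congrArg Subtype.val e)

theorem lineV_injective {i j : ℕ} (hi : i < 315) (hj : j < 315) (h : lineV i = lineV j) : i = j := by
  have e : ∀ m < 315, Data.lines.getD m 0 = codeV (codeQ (lineV m).1) (codeQ (lineV m).2.1) (codeQ (lineV m).2.2) :=
    fun m hm => by simpa using List.all_eq_true.1 lines_nodup.2 m (List.mem_range.2 hm)
  have : Data.lines.getD i 0 = Data.lines.getD j 0 := by rw [e i hi, e j hj, h]
  rw [List.getD_eq_getElem _ _ (by rw [lines_length]; exact hi),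
    List.getD_eq_getElem _ _ (by rw [lines_length]; exact hj)] at this
  exact lines_nodup.1.getElem_inj_iff.1 this

theorem norm_one_of_star {q : Ic} (h : valT (nrmQ q) = 1) : star (phi q) * phi q = 1 := by
  rw [Quaternion.star_mul_self, ← Quaternion.self_mul_star, phi_mul_star, h, Quaternion.coe_one]

theorem starQ_unit (i : ℕ) (hi : i < 120) : star (phi (unitQ i)) * phi (unitQ i) = 1 :=
  norm_one_of_star (by rw [unitQ_nrm hi, valT_one])

theorem exists_unit {q : Ic} (h : valT (nrmQ q) = 1) : ∃ i < 120, q = unitQ i := by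
  have hn : nrmQ q = (1, 0) := valT_injective (h.trans valT_one.symm)
  have ht : tpT ((4, 0) - nrmQ q) = true := by rw [hn]; decide
  have hne : q ≠ 0 := by rintro rfl; exact absurd hn (by decide)
  obtain ⟨i, k, hi, hk, e⟩ := (small_spec ht).2.2.2 hne
  have hk1 : nrmQ (repQ k) = (1, 0) := by
    apply valT_injective
    have := nrmQ_mulQ (unitQ i) (repQ k)
    rw [← e, h, unitQ_nrm hi, valT_one, one_mul] at this
    rw [← this, valT_one]
  have hc := List.all_eq_true.1 units_closed k (List.mem_range.2 hk)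
  simp only [Bool.or_eq_true, bne_iff_ne, hk1, ne_eq, not_true_eq_false, false_or, List.all_eq_true,
    Bool.and_eq_true, decide_eq_true_eq, List.contains_iff_mem, List.mem_range] at hc
  obtain ⟨hmem, hdec⟩ := hc i hi
  obtain ⟨m, hm, hme⟩ := List.getElem_of_mem hmem
  refine ⟨m, units_ok.1 ▸ hm, ?_⟩
  show q = decQ (Data.units.getD m 0)
  rw [List.getD_eq_getElem _ _ hm, hme, hdec, e]

theorem repQ_idx {c : ℕ} (hc : c ∈ Data.reps) : ∃ k < 51, repQ k = decQ c ∧ codeQ (repQ k) = c := by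
  obtain ⟨k, hk, e⟩ := List.getElem_of_mem hc
  have hr : repQ k = decQ c := by rw [repQ, List.getD_eq_getElem _ _ hk, e]
  exact ⟨k, reps_ok.1 ▸ hk, hr, by rw [hr]; simpa using List.all_eq_true.1 reps_dec c hc⟩

/-- A unit fixing the orbit of a representative fixes the representative. -/
theorem rep_fixed {i k k' : ℕ} (hi : i < 120) (hk : k < 51) (hk' : k' < 51)
    (h : mulQ (unitQ i) (repQ k) = repQ k') : phi (unitQ i) = 1 := by
  have hc := List.all_eq_true.1 (List.all_eq_true.1 orbit_distinct k (List.mem_range.2 hk)) i (List.mem_range.2 hi)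
  have hkl : k' < Data.reps.length := by rw [reps_ok.1]; exact hk'
  have hmem : Data.reps.getD k' 0 ∈ Data.reps := by
    rw [List.getD_eq_getElem _ _ hkl]; exact List.getElem_mem _
  have hcode : codeQ (repQ k') = Data.reps.getD k' 0 := by
    simpa [repQ] using List.all_eq_true.1 reps_dec _ hmem
  have hidx : Data.reps.idxOf (codeQ (mulQ (unitQ i) (repQ k))) = k' := by
    rw [h, hcode, List.getD_eq_getElem _ _ hkl]
    exact reps_ok.2.1.idxOf_getElem _ _
  simp only [Bool.or_eq_true, beq_iff_eq, hidx] at hc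
  have hkk : k' = k := hc.resolve_right (by omega)
  subst hkk
  have hne : phi (repQ k') ≠ 0 := by
    have hd := List.all_eq_true.1 reps_ok.2.2 _ (List.mem_map_of_mem hmem)
    simp only [Bool.and_eq_true, decide_eq_true_eq] at hd
    exact fun e => hd.1 (phi_injective (e.trans phi_zero.symm))
  have h' := congrArg phi h
  rw [phi_mulQ] at h'
  exact mul_right_cancel₀ hne (h'.trans (one_mul _).symm)

theorem head_spec {j : ℕ} (hj : j < 315) :
    ∃ k < 51, ((lineV j).1 = repQ k ∧ (lineV j).1 ≠ 0) ∨ ((lineV j).1 = 0 ∧ (lineV j).2.1 = repQ k ∧ (lineV j).2.1 ≠ 0) ∨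
      ((lineV j).1 = 0 ∧ (lineV j).2.1 = 0 ∧ (lineV j).2.2 = repQ k) := by
  obtain ⟨-, -, h3, h4, h5, h6⟩ := line_spec hj
  obtain ⟨k, hk, hr, -⟩ := repQ_idx h3
  refine ⟨k, hk, ?_⟩
  unfold headCode at hr
  by_cases e1 : (lineV j).1 = 0
  · by_cases e2 : (lineV j).2.1 = 0
    · rw [if_pos e1, if_pos e2, h6] at hr; exact Or.inr (Or.inr ⟨e1, e2, hr.symm⟩)
    · rw [if_pos e1, if_neg e2, h5] at hr; exact Or.inr (Or.inl ⟨e1, hr.symm, e2⟩)
  · rw [if_neg e1, h4] at hr; exact Or.inl ⟨hr.symm, e1⟩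

theorem smulV_one_of_phi {u : Ic} (h : phi u = 1) (v : IV) : smulV u v = v := by
  refine psi_injective ?_
  rw [psi_smulV, h]
  funext t
  rw [one_mul]

theorem line_unique {q : Ic} (hq : valT (nrmQ q) = 1) {i j : ℕ} (hi : i < 315) (hj : j < 315)
    (h : smulV q (lineV i) = lineV j) : i = j := by
  obtain ⟨m, hm, rfl⟩ := exists_unit hq
  obtain ⟨k, hk, hi'⟩ := head_spec hi
  obtain ⟨k', hk', hj'⟩ := head_spec hj
  have e1 : mulQ (unitQ m) (lineV i).1 = (lineV j).1 := congrArg Prod.fst h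
  have e2 : mulQ (unitQ m) (lineV i).2.1 = (lineV j).2.1 := congrArg (fun v => v.2.1) h
  have e3 : mulQ (unitQ m) (lineV i).2.2 = (lineV j).2.2 := congrArg (fun v => v.2.2) h
  have hz : ∀ {a b : Ic}, mulQ (unitQ m) a = b → (a = 0 ↔ b = 0) := fun {a b} e => by
    constructor
    · rintro rfl; rw [← e, mulQ_zero_right]
    · rintro rfl
      rw [← unit_cancel hm a, e, mulQ_zero_right]
  have hu : phi (unitQ m) = 1 := by
    rcases hi' with ⟨a, a'⟩ | ⟨a, b, b'⟩ | ⟨a, b, c⟩ <;> rcases hj' with ⟨x, x'⟩ | ⟨x, y, y'⟩ | ⟨x, y, z⟩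
    · exact rep_fixed hm hk hk' (by rw [← a, e1, x])
    · exact absurd ((hz e1).2 x) a'
    · exact absurd ((hz e1).2 x) a'
    · exact absurd ((hz e1).1 a) x'
    · exact rep_fixed hm hk hk' (by rw [← b, e2, y])
    · exact absurd ((hz e2).2 y) b'
    · exact absurd ((hz e1).1 a) x'
    · exact absurd ((hz e2).1 b) y'
    · exact rep_fixed hm hk hk' (by rw [← c, e3, z])
  exact lineV_injective hi hj ((smulV_one_of_phi hu _).symm.trans h)

theorem exists_lineOf {x : Pt} (hx : qip (x : Fin 3 → ℍ[ℝ]) x = 4) :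
    ∃ q : Ic, ∃ j : Fin 315, valT (nrmQ q) = 1 ∧ x = smulPt q (linePt j) := by
  obtain ⟨v, hv, rfl⟩ := exists_mkPt x
  obtain ⟨i, j, hi, hj, e⟩ := exists_line hx hv
  refine ⟨unitQ i, ⟨j, hj⟩, by rw [unitQ_nrm hi, valT_one], ?_⟩
  rw [linePt, smulPt_mkPt]
  exact Subtype.ext (congrArg psi e)

open Classical in
/-- The line of a minimal point. -/
def lineOf (x : Pt) : Fin 315 :=
  if h : qip (x : Fin 3 → ℍ[ℝ]) x = 4 then (exists_lineOf h).choose_spec.choose else 0

theorem smulPt_smulPt (p q : Ic) (x : Pt) : smulPt p (smulPt q x) = smulPt (mulQ p q) x :=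
  Subtype.ext (funext fun t => by
    show phi p * (phi q * (x : Fin 3 → ℍ[ℝ]) t) = phi (mulQ p q) * _
    rw [phi_mulQ, mul_assoc])

theorem smulPt_of_phi_one {q : Ic} (h : phi q = 1) (x : Pt) : smulPt q x = x :=
  Subtype.ext (funext fun t => by
    show phi q * (x : Fin 3 → ℍ[ℝ]) t = _
    rw [h, one_mul])

theorem qip_smulPt {q : Ic} (hq : valT (nrmQ q) = 1) {x : Pt} (hx : qip (x : Fin 3 → ℍ[ℝ]) x = 4) :
    qip (smulPt q x : Fin 3 → ℍ[ℝ]) (smulPt q x) = 4 := by
  show qip (lmul (phi q) _) (lmul (phi q) _) = 4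
  rw [qip_lmul_left, qip_lmul_right, hx, show (4 : ℍ[ℝ]) = ((4 : ℝ) : ℍ[ℝ]) from rfl, Quaternion.coe_commutes,
    ← mul_assoc, phi_mul_star, hq, Quaternion.coe_one, one_mul]

theorem lineOf_eq {q : Ic} (hq : valT (nrmQ q) = 1) (j : Fin 315) : lineOf (smulPt q (linePt j)) = j := by
  have h := qip_smulPt hq (qip_linePt j)
  rw [lineOf, dif_pos h]
  obtain ⟨hq', e⟩ := (exists_lineOf h).choose_spec.choose_spec
  set j' := (exists_lineOf h).choose_spec.choose
  set q' := (exists_lineOf h).choose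
  have hn : valT (nrmQ (starQ q)) = 1 := by
    have h1 := phi_mul_star (starQ q)
    rw [phi_starQ, star_star, norm_one_of_star hq, ← Quaternion.coe_one, Quaternion.coe_inj] at h1
    exact h1.symm
  have e2 : smulPt (mulQ (starQ q) q') (linePt j') = linePt j := by
    rw [← smulPt_smulPt, ← e, smulPt_smulPt]
    exact smulPt_of_phi_one (by rw [phi_mulQ, phi_starQ, norm_one_of_star hq]) _
  rw [linePt, linePt, smulPt_mkPt] at e2
  exact Fin.ext (line_unique (by rw [nrmQ_mulQ, hn, hq', one_mul]) j'.isLt j.isLt (mkPt_injective e2))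

theorem linePt_eq_smul_one (j : Fin 315) : smulPt (scal (1, 0)) (linePt j) = linePt j :=
  smulPt_of_phi_one (by rw [phi_scal, valT_one, Quaternion.coe_one]) _

theorem lineOf_linePt (j : Fin 315) : lineOf (linePt j) = j := by
  have h := lineOf_eq (q := scal (1, 0)) (by rw [show nrmQ (scal (1, 0)) = (1, 0) by decide, valT_one]) j
  rwa [linePt_eq_smul_one] at h

theorem lineOf_sim {g : Equiv.Perm Pt} (hg : g ∈ simGroup) {x : Pt} (hx : qip (x : Fin 3 → ℍ[ℝ]) x = 4) :
    lineOf (g x) = lineOf (g (linePt (lineOf x))) := by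
  obtain ⟨q, j, hq, rfl⟩ := exists_lineOf hx
  obtain ⟨q', j', hq', e⟩ := exists_lineOf (x := g (linePt j)) (by rw [hg.ip]; exact qip_linePt j)
  rw [lineOf_eq hq, hg.smul, e, smulPt_smulPt, lineOf_eq hq', lineOf_eq (by rw [nrmQ_mulQ, hq, hq', one_mul])]

/-- The action on the lines. -/
def actFun (g : simGroup) (j : Fin 315) : Fin 315 := lineOf ((g : Equiv.Perm Pt) (linePt j))

theorem actFun_mul (f g : simGroup) (j : Fin 315) : actFun (f * g) j = actFun f (actFun g j) := by
  show lineOf ((f : Equiv.Perm Pt) ((g : Equiv.Perm Pt) (linePt j))) = _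
  exact lineOf_sim f.2 (by rw [g.2.ip]; exact qip_linePt j)

theorem actFun_one (j : Fin 315) : actFun 1 j = j := lineOf_linePt j

/-- The action on the lines as a homomorphism. -/
def act : simGroup →* Equiv.Perm (Fin 315) where
  toFun g :=
    { toFun := actFun g
      invFun := actFun g⁻¹
      left_inv := fun j => by rw [← actFun_mul, inv_mul_cancel, actFun_one]
      right_inv := fun j => by rw [← actFun_mul, mul_inv_cancel, actFun_one] }
  map_one' := Equiv.ext actFun_one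
  map_mul' f g := Equiv.ext (actFun_mul f g)

theorem act_apply (g : simGroup) (j : Fin 315) : act g j = lineOf ((g : Equiv.Perm Pt) (linePt j)) := rfl

/-! ### The generators -/

theorem genLine_lt {k : ℕ} (hk : k < 4) : genLine k < 315 ∧ rootTest (lineV (genLine k)) = true := by
  simpa using List.all_eq_true.1 gen_root k (List.mem_range.2 hk)

/-- The generating line as an index. -/
def genIx (k : Fin 4) : Fin 315 := ⟨genLine k, (genLine_lt k.isLt).1⟩

theorem gen_isRoot (k : Fin 4) : IsRoot (lineV (genLine k)) := isRoot_of_test (genLine_lt k.isLt).2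

/-- The generating reflections. -/
def genRefl (k : Fin 4) : Equiv.Perm Pt := rootPerm (gen_isRoot k)

theorem genRefl_isReflAt (k : Fin 4) : IsReflAt (linePt (genIx k)) (genRefl k) := rootPerm_isReflAt _

/-- The generators in the ambient group. -/
def genSim (k : Fin 4) : simGroup := ⟨genRefl k, isSim_of_isReflAt (genRefl_isReflAt k)⟩

theorem act_tbl (k : Fin 4) (j : Fin 315) : (act (genSim k) j).val = genImg k j := by
  have hall : (List.range 315).all (actOk k.val) = true := by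
    fin_cases k
    exacts [act_ok0, act_ok1, act_ok2, act_ok3]
  have h := List.all_eq_true.1 hall j.val (List.mem_range.2 j.isLt)
  simp only [actOk, Bool.and_eq_true, decide_eq_true_eq] at h
  obtain ⟨⟨hu, hl⟩, e⟩ := h
  have e' : genRefl k (linePt j) = smulPt (unitQ ((actTbl k).getD j 0 % 128)) (linePt ⟨genImg k j, hl⟩) := by
    apply Subtype.ext
    rw [(genRefl_isReflAt k).2]
    show qrefl (psi (lineV (genLine k))) (psi (lineV j)) = lmul (phi _) (psi (lineV _))
    rw [qrefl_psi ((gen_isRoot k).pres _ (line_spec j.isLt).1).1, e, psi_smulV]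
    rfl
  rw [act_apply]
  show (lineOf (genRefl k (linePt j))).val = _
  rw [e', lineOf_eq (by rw [unitQ_nrm hu, valT_one])]

/-- The group generated by the four reflections. -/
def genGroup : Subgroup simGroup := Subgroup.closure (Set.range genSim)

theorem genSim_mem (k : Fin 4) : genSim k ∈ genGroup := Subgroup.subset_closure ⟨k, rfl⟩

theorem order_lt {m : ℕ} (hm : m < 315) : Data.lineOrder.getD m 0 < 315 := by
  obtain ⟨-, -, -, h4, h5⟩ := search_ok
  induction m using Nat.strong_induction_on with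
  | h m ih =>
    rcases m with _ | m
    · rw [h4]; exact (genLine_lt (by norm_num)).1
    · have h := List.all_eq_true.1 h5 m (List.mem_range.2 (by omega))
      simp only [Bool.and_eq_true, decide_eq_true_eq, beq_iff_eq] at h
      obtain ⟨⟨hc1, hc2⟩, e⟩ := h
      have hp := ih (Data.lineParent.getD m (0, 0)).2 (by omega) (by omega)
      rw [e, ← act_tbl ⟨_, hc1⟩ ⟨_, hp⟩]
      exact Fin.isLt _

theorem exists_gen_line (j : Fin 315) : ∃ g ∈ genGroup, act g (genIx 0) = j := by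
  obtain ⟨h1, -, h3, h4, h5⟩ := search_ok
  have hj : j.val ∈ Data.lineOrder := by simpa using List.all_eq_true.1 h3 j.val (List.mem_range.2 j.isLt)
  obtain ⟨m, hm, e⟩ := List.getElem_of_mem hj
  suffices ∀ m < 315, ∀ j : Fin 315, Data.lineOrder.getD m 0 = j.val → ∃ g ∈ genGroup, act g (genIx 0) = j from
    this m (h1 ▸ hm) j (by rw [List.getD_eq_getElem _ _ hm, e])
  clear hj hm e m j
  intro m
  induction m using Nat.strong_induction_on with
  | h m ih =>
    intro hm j hj
    rcases m with _ | m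
    · refine ⟨1, one_mem _, ?_⟩
      rw [map_one]
      exact Fin.ext (h4.symm.trans hj)
    · have h := List.all_eq_true.1 h5 m (List.mem_range.2 (by omega))
      simp only [Bool.and_eq_true, decide_eq_true_eq, beq_iff_eq] at h
      obtain ⟨⟨hc1, hc2⟩, e⟩ := h
      obtain ⟨g, hg, hgj⟩ := ih (Data.lineParent.getD m (0, 0)).2 (by omega) (by omega)
        ⟨_, order_lt (by omega)⟩ rfl
      refine ⟨genSim ⟨_, hc1⟩ * g, mul_mem (genSim_mem _) hg, Fin.ext ?_⟩
      rw [map_mul, Equiv.Perm.mul_apply, hgj, act_tbl, ← hj, e]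

theorem half_even (k : Fin 4) (x : Pt) :
    ∃ c : Ic, (1 / 2 : ℝ) • qip (x : Fin 3 → ℍ[ℝ]) (linePt (genIx k)) = phi c := by
  obtain ⟨v, hv, rfl⟩ := exists_mkPt x
  obtain ⟨c, hc⟩ := ((gen_isRoot k).pres v hv).1
  refine ⟨c, ?_⟩
  show (1 / 2 : ℝ) • qip (psi v) (psi (lineV (genLine k))) = phi c
  rw [qip_psi, hc, phi_add, ← two_smul ℝ (phi c), smul_smul]
  norm_num

/-- Every minimal point has a reflection, conjugate to the first generator. -/
theorem exists_reflection {x : Pt} (hx : qip (x : Fin 3 → ℍ[ℝ]) x = 4) :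
    ∃ g ∈ genGroup, IsReflAt x ((g : Equiv.Perm Pt) * genRefl 0 * (g : Equiv.Perm Pt)⁻¹) := by
  obtain ⟨q, j, hq, rfl⟩ := exists_lineOf hx
  obtain ⟨g, hg, hgj⟩ := exists_gen_line j
  refine ⟨g, hg, ?_⟩
  have h1 : IsReflAt ((g : Equiv.Perm Pt) (linePt (genIx 0))) ((g : Equiv.Perm Pt) * genRefl 0 * (g : Equiv.Perm Pt)⁻¹) :=
    (genRefl_isReflAt 0).conj g.2 (half_even 0)
  obtain ⟨q', j', hq', e⟩ := exists_lineOf (x := (g : Equiv.Perm Pt) (linePt (genIx 0)))
    (by rw [g.2.ip]; exact qip_linePt _)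
  have hjj : j' = j := by rw [← hgj, act_apply, e, lineOf_eq hq']
  subst hjj
  rw [e] at h1
  have h2 := h1.smul (a := starQ q') (by
    rw [phi_starQ, star_star, phi_mul_star, hq', Quaternion.coe_one])
  have e3 : smulPt (starQ q') (smulPt q' (linePt j')) = linePt j' := by
    rw [smulPt_smulPt]
    exact smulPt_of_phi_one (by rw [phi_mulQ, phi_starQ, norm_one_of_star hq']) _
  rw [e3] at h2
  exact h2.smul (norm_one_of_star hq)

theorem isReflAt_sim_conj {f : Equiv.Perm Pt} (hf : IsIcoReflection f) :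
    ∃ g ∈ genGroup, f = (g : Equiv.Perm Pt) * genRefl 0 * (g : Equiv.Perm Pt)⁻¹ := by
  obtain ⟨r, hr, hf⟩ := hf
  obtain ⟨g, hg, hgr⟩ := exists_reflection hr
  exact ⟨g, hg, isReflAt_unique ⟨hr, hf⟩ hgr⟩

theorem twoJ2_eq : twoJ2 = genGroup.map simGroup.subtype := by
  refine le_antisymm ((Subgroup.closure_le _).2 fun f hf => ?_) ?_
  · obtain ⟨g, hg, rfl⟩ := isReflAt_sim_conj hf
    exact ⟨g * genSim 0 * g⁻¹, mul_mem (mul_mem hg (genSim_mem 0)) (inv_mem hg), rfl⟩
  · rw [genGroup, MonoidHom.map_closure]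
    refine Subgroup.closure_mono ?_
    rintro _ ⟨_, ⟨k, rfl⟩, rfl⟩
    exact ⟨linePt (genIx k), (genRefl_isReflAt k).1, (genRefl_isReflAt k).2⟩

/-! ### Sign changes and the kernel of the action -/

/-- Twice a standard vector. -/
def frameV : Fin 3 → IV
  | 0 => (scal (2, 0), 0, 0)
  | 1 => (0, scal (2, 0), 0)
  | 2 => (0, 0, scal (2, 0))

theorem frame_mem (t : Fin 3) : inL (frameV t) = true := by fin_cases t <;> decide

/-- The frame points. -/
def frame (t : Fin 3) : Pt := mkPt (frameV t) (frame_mem t)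

theorem qip_frame (t : Fin 3) : qip (frame t : Fin 3 → ℍ[ℝ]) (frame t) = 4 := by
  show qip (psi (frameV t)) (psi (frameV t)) = 4
  rw [qip_self_eq_four]
  fin_cases t <;> decide

theorem frame_apply (t s : Fin 3) : (frame t : Fin 3 → ℍ[ℝ]) s = if s = t then 2 else 0 := by
  have h2 : phi (scal (2, 0)) = (2 : ℍ[ℝ]) := by rw [phi_scal]; norm_num [valT]; rfl
  fin_cases t <;> fin_cases s <;> simp [frame, mkPt, frameV, psi, h2, phi_zero]

theorem qrefl_frame (t : Fin 3) (x : Fin 3 → ℍ[ℝ]) :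
    qrefl (frame t : Fin 3 → ℍ[ℝ]) x = fun s => if s = t then -x s else x s := by
  funext s
  have hq : qip x (frame t : Fin 3 → ℍ[ℝ]) = x t * 2 := by
    simp only [qip, frame_apply, Fin.sum_univ_three]
    fin_cases t <;> simp [show star (2 : ℍ[ℝ]) = 2 from Quaternion.star_coe 2]
  have hh : (1 / 2 : ℝ) • (x t * 2) = x t := by
    rw [show (2 : ℍ[ℝ]) = ((2 : ℝ) : ℍ[ℝ]) from rfl, Quaternion.mul_coe_eq_smul, smul_smul]
    norm_num
  rw [qrefl, hq, hh, frame_apply]
  split_ifs with h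
  · subst h; rw [mul_two]; abel
  · simp

/-- A permutation negating every point. -/
theorem exists_neg : ∃ z : Equiv.Perm Pt, z ∈ twoJ2 ∧
    ∀ x : Pt, ((z x : Pt) : Fin 3 → ℍ[ℝ]) = -(x : Fin 3 → ℍ[ℝ]) := by
  have h : ∀ t : Fin 3, ∃ f, IsReflAt (frame t) f ∧ f ∈ twoJ2 := fun t => by
    obtain ⟨g, -, hg⟩ := exists_reflection (qip_frame t)
    exact ⟨_, hg, Subgroup.subset_closure ⟨_, hg.1, hg.2⟩⟩
  choose f hf hmem using h
  refine ⟨f 0 * f 1 * f 2, mul_mem (mul_mem (hmem 0) (hmem 1)) (hmem 2), fun x => ?_⟩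
  show (f 0 (f 1 (f 2 x)) : Fin 3 → ℍ[ℝ]) = _
  rw [(hf 0).2, (hf 1).2, (hf 2).2, qrefl_frame, qrefl_frame, qrefl_frame]
  funext s
  fin_cases s <;> simp

theorem addPt_self (x : Pt) (a : Fin 3 → Ic) (ha : ∀ t, (x : Fin 3 → ℍ[ℝ]) t = phi (a t)) :
    addPt x x = addPt (smulPt (a 0) (frame 0)) (addPt (smulPt (a 1) (frame 1)) (smulPt (a 2) (frame 2))) := by
  refine Subtype.ext (funext fun s => ?_)
  show (x : Fin 3 → ℍ[ℝ]) s + (x : Fin 3 → ℍ[ℝ]) s = phi (a 0) * (frame 0 : Fin 3 → ℍ[ℝ]) s +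
    (phi (a 1) * (frame 1 : Fin 3 → ℍ[ℝ]) s + phi (a 2) * (frame 2 : Fin 3 → ℍ[ℝ]) s)
  simp only [frame_apply]
  fin_cases s <;> simp [← ha, mul_two]

theorem exists_diag {g : simGroup} (hg : act g = 1) : ∃ u : Fin 3 → Ic, (∀ t, valT (nrmQ (u t)) = 1) ∧
    ∀ x : Pt, ∀ s, (((g : Equiv.Perm Pt) x : Pt) : Fin 3 → ℍ[ℝ]) s = (x : Fin 3 → ℍ[ℝ]) s * phi (u s) := by
  have h : ∀ t, ∃ u : Ic, valT (nrmQ u) = 1 ∧ (g : Equiv.Perm Pt) (frame t) = smulPt u (frame t) := by
    intro t
    obtain ⟨q, j, hq, e⟩ := exists_lineOf (qip_frame t)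
    obtain ⟨q', j', hq', e'⟩ := exists_lineOf (x := (g : Equiv.Perm Pt) (linePt j)) (by rw [g.2.ip]; exact qip_linePt j)
    have hjj : j' = j := by
      have : act g j = j := by rw [hg]; rfl
      rw [act_apply, e', lineOf_eq hq'] at this
      exact this
    subst hjj
    have hn : valT (nrmQ (starQ q)) = 1 := by
      have h1 := phi_mul_star (starQ q)
      rw [phi_starQ, star_star, norm_one_of_star hq, ← Quaternion.coe_one, Quaternion.coe_inj] at h1
      exact h1.symm
    refine ⟨mulQ q (mulQ q' (starQ q)), by rw [nrmQ_mulQ, nrmQ_mulQ, hq, hq', hn, one_mul, one_mul], ?_⟩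
    rw [e, g.2.smul, e', smulPt_smulPt, smulPt_smulPt]
    refine Subtype.ext (funext fun s => ?_)
    show phi _ * _ = phi _ * _
    rw [phi_mulQ, phi_mulQ, phi_mulQ, phi_mulQ, phi_starQ]
    simp only [mul_assoc]
    rw [← mul_assoc (star (phi q)), norm_one_of_star hq, one_mul]
  choose u hu hug using h
  refine ⟨u, hu, fun x s => ?_⟩
  obtain ⟨v, hv, rfl⟩ := exists_mkPt x
  set a : Fin 3 → Ic := ![v.1, v.2.1, v.2.2] with hadef
  have ha : ∀ t, (mkPt v hv : Fin 3 → ℍ[ℝ]) t = phi (a t) := fun t => by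
    fin_cases t <;> simp [hadef, mkPt, psi]
  have e := congrArg (g : Equiv.Perm Pt) (addPt_self (mkPt v hv) a ha)
  rw [g.2.add, g.2.add, g.2.add, g.2.smul, g.2.smul, g.2.smul, hug, hug, hug] at e
  have e' := congrFun (congrArg Subtype.val e) s
  change (((g : Equiv.Perm Pt) (mkPt v hv) : Pt) : Fin 3 → ℍ[ℝ]) s + _ = phi (a 0) * (phi (u 0) * _) +
    (phi (a 1) * (phi (u 1) * _) + phi (a 2) * (phi (u 2) * _)) at e'
  simp only [frame_apply] at e'
  have h2 : (2 : ℝ) • (((g : Equiv.Perm Pt) (mkPt v hv) : Pt) : Fin 3 → ℍ[ℝ]) s =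
      (2 : ℝ) • ((mkPt v hv : Fin 3 → ℍ[ℝ]) s * phi (u s)) := by
    rw [two_smul, two_smul, e', ha]
    fin_cases s <;> simp [mul_two, mul_add]
  exact smul_right_injective _ (two_ne_zero : (2 : ℝ) ≠ 0) h2

theorem testV_spec (j : ℕ) (hj : j < 315) : inL (testV j) = true := inL_smulV (line_spec hj).1

/-- An element fixing all lines is a sign. -/
theorem act_eq_one {g : simGroup} (hg : act g = 1) :
    (∀ x, (g : Equiv.Perm Pt) x = x) ∨
      ∀ x : Pt, (((g : Equiv.Perm Pt) x : Pt) : Fin 3 → ℍ[ℝ]) = -(x : Fin 3 → ℍ[ℝ]) := by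
  obtain ⟨u, hu, hux⟩ := exists_diag hg
  obtain ⟨hA, hB, hA1, hB1, hA2, hA3, hcheck⟩ := scalar_ok
  -- a vector with first entry one whose line is fixed
  have key : ∀ j < 315, (testV j).1 = ((1, 0), 0, 0, 0) →
      phi (testV j).2.1 * phi (u 1) = phi (u 0) * phi (testV j).2.1 ∧
      phi (testV j).2.2 * phi (u 2) = phi (u 0) * phi (testV j).2.2 := by
    intro j hj h1
    obtain ⟨q, j', hq, e⟩ := exists_lineOf (x := (g : Equiv.Perm Pt) (linePt ⟨j, hj⟩)) (by rw [g.2.ip]; exact qip_linePt _)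
    have hjj : j' = (⟨j, hj⟩ : Fin 315) := by
      have : act g ⟨j, hj⟩ = ⟨j, hj⟩ := by rw [hg]; rfl
      rw [act_apply, e, lineOf_eq hq] at this
      exact this
    subst hjj
    set c := starQ (lineV j).1 with hc
    have hc1 : phi c * phi (lineV j).1 = 1 := by
      rw [← phi_mulQ, show mulQ c (lineV j).1 = (testV j).1 from rfl, h1, phi_one]
    have hc2 : phi (lineV j).1 * phi c = 1 := mul_eq_one_symm hc1
    have e' : (g : Equiv.Perm Pt) (smulPt c (linePt ⟨j, hj⟩)) =
        smulPt (mulQ (mulQ c q) (lineV j).1) (smulPt c (linePt ⟨j, hj⟩)) := by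
      rw [g.2.smul, e, smulPt_smulPt, smulPt_smulPt]
      refine Subtype.ext (funext fun s => ?_)
      show phi _ * _ = phi _ * _
      rw [phi_mulQ, phi_mulQ, phi_mulQ, phi_mulQ, mul_assoc (phi c * phi q), hc2, mul_one]
    have hs : ∀ s, (smulPt c (linePt ⟨j, hj⟩) : Fin 3 → ℍ[ℝ]) s * phi (u s) =
        phi (mulQ (mulQ c q) (lineV j).1) * (smulPt c (linePt ⟨j, hj⟩) : Fin 3 → ℍ[ℝ]) s := fun s => by
      rw [← hux, e']; rfl
    have hval : (smulPt c (linePt ⟨j, hj⟩) : Fin 3 → ℍ[ℝ]) = psi (testV j) := (psi_smulV _ _).symm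
    rw [hval] at hs
    have hw := hs 0
    simp only [psi, Matrix.cons_val_zero, h1, phi_one, one_mul, mul_one] at hw
    refine ⟨?_, ?_⟩
    · have := hs 1; simp only [psi, Matrix.cons_val_one, Matrix.cons_val_zero] at this; rw [this, hw]
    · have := hs 2; simp only [psi, Matrix.cons_val_two, Matrix.tail_cons, Matrix.head_cons] at this; rw [this, hw]
  obtain ⟨ka1, ka2⟩ := key testA hA hA1
  obtain ⟨kb1, -⟩ := key testB hB hB1
  obtain ⟨i, hi, hi'⟩ := exists_unit (hu 0)
  have hpm : phi (u 0) = 1 ∨ phi (u 0) = -1 := by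
    have h := List.all_eq_true.1 hcheck i (List.mem_range.2 hi)
    simp only [Bool.or_eq_true, beq_iff_eq, decide_eq_true_eq] at h
    rcases h with (h | h) | h
    · left; rw [hi', h, phi_scal, valT_one, Quaternion.coe_one]
    · right; rw [hi', h, phi_scal, show valT (-1, 0) = -1 by simp [valT], Quaternion.coe_neg, Quaternion.coe_one]
    · refine absurd (phi_injective ?_) h
      rw [phi_mulQ, phi_mulQ, phi_mulQ, phi_mulQ, phi_mulQ, phi_scal, phi_starQ, ← hi', ← kb1, ← phi_mul_star,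
        mul_assoc _ (phi (u 0)), ← ka1, ← mul_assoc]
      rw [mul_assoc (phi (testV testB).2.1), Quaternion.star_mul_self, ← Quaternion.self_mul_star, phi_mul_star,
        ← Quaternion.coe_commutes, mul_assoc]
  have hne1 : phi (testV testA).2.1 ≠ 0 := fun h => hA2 (phi_injective (h.trans phi_zero.symm))
  have hne2 : phi (testV testA).2.2 ≠ 0 := fun h => hA3 (phi_injective (h.trans phi_zero.symm))
  rcases hpm with h | h
  · left
    have h1 : phi (u 1) = 1 := mul_left_cancel₀ hne1 (by rw [ka1, h, one_mul, mul_one])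
    have h2 : phi (u 2) = 1 := mul_left_cancel₀ hne2 (by rw [ka2, h, one_mul, mul_one])
    intro x
    refine Subtype.ext (funext fun s => ?_)
    rw [hux]
    fin_cases s <;> simp [h, h1, h2]
  · right
    have h1 : phi (u 1) = -1 := mul_left_cancel₀ hne1 (by rw [ka1, h, neg_one_mul, mul_neg_one])
    have h2 : phi (u 2) = -1 := mul_left_cancel₀ hne2 (by rw [ka2, h, neg_one_mul, mul_neg_one])
    intro x
    funext s
    rw [hux]
    fin_cases s <;> simp [h, h1, h2]

end CfsgLib.Ico
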