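import Cfsg.Agent.Lib.Ico.Enum

/-!
# Kernel scan of minimal vectors in normal form
-/

set_option autoImplicit false
set_option maxRecDepth 100000

namespace CfsgLib.Ico

theorem units_ok : Data.units.length = 120 ∧ Data.units.Nodup ∧
    (Data.units.map decQ).all (fun q => decide (nrmQ q = (1, 0))) = true := by decide +kernel

theorem reps_ok : Data.reps.length = 51 ∧ Data.reps.Nodup ∧
    (Data.reps.map decQ).all (fun q => decide (q ≠ 0) && decide (codeQ q < 1099511627776)) = true := by
  decide +kernel

/-- The code of a triple. -/
def codeV (x y z : ℕ) : ℕ :=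
  x % 1099511627776 + 1099511627776 * (y % 1099511627776 + 1099511627776 * (z % 1099511627776))

/-- The entries of one norm and residue. -/
def bucketAt (n : ZT) (r : ℕ) : List ℕ :=
  if Data.norms.contains n then Data.buckets.getD (Data.norms.idxOf n * 16 + Data.residues.idxOf r) [] else []

/-- The scan of one head, with the second entries given. -/
def scanY (ex : ℕ) (zs : List ℕ) : List ℕ → Bool
  | [] => true
  | ey :: ys =>
    zs.all (fun ez =>
      Nat.xor (ex / 1099511627776) (Nat.xor (ey / 1099511627776) (ez / 1099511627776)) != 0 ||
        Data.lines.contains (codeV ex ey ez)) && scanY ex zs ys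

/-- The scan of a head in the first position. -/
def scan0 (c : ℕ) : Bool :=
  let x := decQ c
  let r := resQ x
  Data.norms.all fun n => scanY (entryOf x) (bucketAt ((4, 0) - nrmQ x - n) r) (bucketAt n r)

/-- The scan of a head in the second position. -/
def scan1 (c : ℕ) : Bool :=
  let x := decQ c
  resQ x != resQ 0 ||
    scanY (entryOf 0) (bucketAt ((4, 0) - nrmQ x) (resQ x)) [entryOf x]

/-- The scan of a head in the third position. -/
def scan2 (c : ℕ) : Bool :=
  let x := decQ c
  resQ x != resQ 0 || nrmQ x != (4, 0) || Nat.xor (sumQ 0) (Nat.xor (sumQ 0) (sumQ x)) != 0 ||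
    Data.lines.contains (codeV (entryOf 0) (entryOf 0) (entryOf x))

set_option maxHeartbeats 4000000 in
theorem scan0_ok : Data.reps.all scan0 = true := by decide +kernel

theorem scan1_ok : Data.reps.all scan1 = true := by decide +kernel

theorem scan2_ok : Data.reps.all scan2 = true := by decide +kernel

end CfsgLib.Ico
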