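import Cfsg.Agent.Lib.Ico.Small3

/-!
# Certified enumeration of small icosians
-/

set_option autoImplicit false
set_option maxRecDepth 100000

namespace CfsgLib.Ico

theorem smallT_length : smallT.length = 31 := by decide +kernel

theorem small_ok {A : ZT} (hA : A ∈ smallT) : ∃ cs, okAll (smallAt A) cs = true := by
  obtain ⟨i, hi, rfl⟩ := List.getElem_of_mem hA
  rw [smallT_length] at hi
  rw [← List.getD_eq_getElem _ 0]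
  interval_cases i
  exacts [⟨_, small_ok0⟩, ⟨_, small_ok1⟩, ⟨_, small_ok2⟩, ⟨_, small_ok3⟩, ⟨_, small_ok4⟩, ⟨_, small_ok5⟩, ⟨_, small_ok6⟩, ⟨_, small_ok7⟩, ⟨_, small_ok8⟩, ⟨_, small_ok9⟩, ⟨_, small_ok10⟩, ⟨_, small_ok11⟩, ⟨_, small_ok12⟩, ⟨_, small_ok13⟩, ⟨_, small_ok14⟩, ⟨_, small_ok15⟩, ⟨_, small_ok16⟩, ⟨_, small_ok17⟩, ⟨_, small_ok18⟩, ⟨_, small_ok19⟩, ⟨_, small_ok20⟩, ⟨_, small_ok21⟩, ⟨_, small_ok22⟩, ⟨_, small_ok23⟩, ⟨_, small_ok24⟩, ⟨_, small_ok25⟩, ⟨_, small_ok26⟩, ⟨_, small_ok27⟩, ⟨_, small_ok28⟩, ⟨_, small_ok29⟩, ⟨_, small_ok30⟩]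

end CfsgLib.Ico
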