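import Cfsg.Agent.Lib.Ico.Lattice
import Cfsg.Agent.Lib.Ico.Small
import Cfsg.Agent.Lib.Ico.Scan

/-!
# The minimal vectors are the unit multiples of the 315 listed ones
-/

set_option autoImplicit false

noncomputable section

namespace CfsgLib.Ico

open Cfsg.Spor Quaternion

theorem valT_eq (x : ZT) : valT x = ((2 * x.1 + x.2 : ℤ) : ℝ) / 2 + ((x.2 : ℤ) : ℝ) * Real.sqrt 5 / 2 := by
  simp only [valT, tau]; push_cast; ring

theorem nonneg_quad (X Y : ℤ) : 0 ≤ (X : ℝ) + (Y : ℝ) * Real.sqrt 5 ↔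
    ((0 ≤ X ∧ 0 ≤ Y) ∨ (0 ≤ X ∧ 5 * Y * Y ≤ X * X) ∨ (0 ≤ Y ∧ X * X ≤ 5 * Y * Y)) := by
  have h5 := sqrt_five_sq
  have hp : 0 < Real.sqrt 5 := by positivity
  constructor
  · intro h
    by_cases hX : 0 ≤ X
    · by_cases hY : 0 ≤ Y
      · exact Or.inl ⟨hX, hY⟩
      · refine Or.inr (Or.inl ⟨hX, ?_⟩)
        have hY' : (Y : ℝ) ≤ 0 := by exact_mod_cast (le_of_not_ge hY)
        have : (5 * Y * Y : ℝ) ≤ (X * X : ℝ) := by
          nlinarith [mul_le_mul_of_nonneg_right (show (-(Y : ℝ) * Real.sqrt 5) ≤ X by linarith)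
            (show (0 : ℝ) ≤ -(Y : ℝ) * Real.sqrt 5 by nlinarith)]
        exact_mod_cast this
    · have hX' : (X : ℝ) < 0 := by exact_mod_cast (lt_of_not_ge hX)
      have hY' : 0 ≤ (Y : ℝ) := by
        by_contra hc
        nlinarith [mul_neg_of_neg_of_pos (lt_of_not_ge hc) hp]
      refine Or.inr (Or.inr ⟨by exact_mod_cast hY', ?_⟩)
      have : (X * X : ℝ) ≤ (5 * Y * Y : ℝ) := by
        nlinarith [mul_le_mul_of_nonneg_right (show -(X : ℝ) ≤ (Y : ℝ) * Real.sqrt 5 by linarith)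
          (show (0 : ℝ) ≤ -(X : ℝ) by linarith)]
      exact_mod_cast this
  · rintro (⟨hX, hY⟩ | ⟨hX, h⟩ | ⟨hY, h⟩)
    · have hX' : 0 ≤ (X : ℝ) := by exact_mod_cast hX
      have hY' : 0 ≤ (Y : ℝ) := by exact_mod_cast hY
      nlinarith
    · have hX' : 0 ≤ (X : ℝ) := by exact_mod_cast hX
      have h' : (5 * Y * Y : ℝ) ≤ X * X := by exact_mod_cast h
      by_contra hc
      nlinarith
    · have hY' : 0 ≤ (Y : ℝ) := by exact_mod_cast hY
      have h' : (X * X : ℝ) ≤ 5 * Y * Y := by exact_mod_cast h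
      by_contra hc
      nlinarith [mul_nonneg hY' hp.le]

theorem nonnegT_iff (x : ZT) : nonnegT x = true ↔ 0 ≤ valT x := by
  rw [valT_eq, show ((2 * x.1 + x.2 : ℤ) : ℝ) / 2 + ((x.2 : ℤ) : ℝ) * Real.sqrt 5 / 2 =
    (((2 * x.1 + x.2 : ℤ) : ℝ) + ((x.2 : ℤ) : ℝ) * Real.sqrt 5) / 2 by ring,
    le_div_iff₀ (by norm_num : (0 : ℝ) < 2), zero_mul, nonneg_quad]
  simp only [nonnegT, Bool.or_eq_true, Bool.and_eq_true, decide_eq_true_eq, or_assoc]

theorem valT_conjT (x : ZT) : valT (conjT x) = valS x := by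
  simp only [valT, valS, conjT, sig_eq]; push_cast; ring

theorem tpT_iff (x : ZT) : tpT x = true ↔ 0 ≤ valT x ∧ 0 ≤ valS x := by
  rw [tpT, Bool.and_eq_true, nonnegT_iff, nonnegT_iff, valT_conjT]

theorem valS_sub (x y : ZT) : valS (x - y) = valS x - valS y := by simp [valS]; ring

theorem valS_natPair (n : ℤ) : valS (n, 0) = n := by simp [valS]

theorem valT_natPair (n : ℤ) : valT (n, 0) = n := by simp [valT]

theorem nrm_nonneg (p : Ic) : 0 ≤ valT (nrmQ p) ∧ 0 ≤ valS (nrmQ p) := by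
  have h := four_nrm p
  constructor
  · have := congrArg valT h
    simp only [valT_add, valT_mulT] at this
    nlinarith [mul_self_nonneg (valT (sq0 p)), mul_self_nonneg (valT (sq1 p)),
      mul_self_nonneg (valT (0, 1) * valT p.2.2.1), mul_self_nonneg (valT (0, 1) * valT p.2.2.2)]
  · have := congrArg valS h
    simp only [valS_add, valS_mulT] at this
    nlinarith [mul_self_nonneg (valS (sq0 p)), mul_self_nonneg (valS (sq1 p)),
      mul_self_nonneg (valS (0, 1) * valS p.2.2.1), mul_self_nonneg (valS (0, 1) * valS p.2.2.2)]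

theorem mem_smallT {A : ZT} (h1 : valT A ^ 2 ≤ 16) (h2 : valS A ^ 2 ≤ 16) : A ∈ smallT := by
  refine List.mem_filter.2 ⟨?_, (tpT_iff _).2 ⟨?_, ?_⟩⟩
  · have a1 : |valT A| ≤ 4 := abs_le.2 ⟨by nlinarith, by nlinarith⟩
    have a2 : |valS A| ≤ 4 := abs_le.2 ⟨by nlinarith, by nlinarith⟩
    rw [abs_le] at a1 a2
    have hsum : valT A + valS A = 2 * A.1 + A.2 := by
      simp only [valT, valS, sig_eq]; ring
    have hdiff : valT A - valS A = A.2 * Real.sqrt 5 := by
      simp only [valT, valS, tau, sig]; ring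
    have hb : (5 * A.2 * A.2 : ℝ) ≤ 64 := by
      have : (A.2 * Real.sqrt 5) ^ 2 ≤ 64 := by rw [← hdiff]; nlinarith
      nlinarith [sqrt_five_sq]
    have hb' : 5 * A.2 * A.2 ≤ 64 := by exact_mod_cast hb
    have hB : -3 ≤ A.2 ∧ A.2 ≤ 3 := by constructor <;> nlinarith
    have hs1 : (-8 : ℝ) ≤ ((2 * A.1 + A.2 : ℤ) : ℝ) := by push_cast; linarith
    have hs2 : ((2 * A.1 + A.2 : ℤ) : ℝ) ≤ (8 : ℝ) := by push_cast; linarith
    have hs1' : -8 ≤ 2 * A.1 + A.2 := by exact_mod_cast hs1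
    have hs2' : 2 * A.1 + A.2 ≤ 8 := by exact_mod_cast hs2
    simp only [boxT, List.mem_flatMap, List.mem_map, List.mem_range]
    refine ⟨(A.2 + 3).toNat, ?_, (A.1 + 5).toNat, ?_, Prod.ext (by simp; omega) (by simp; omega)⟩ <;>
      simp only [List.bind_eq_flatMap, List.pure_def, List.mem_flatMap, List.mem_singleton, List.mem_range] <;>
      exact ⟨_, by omega, rfl⟩
  · rw [valT_sub, valT_natPair, valT_mulT, ← sq]; push_cast; linarith
  · rw [valS_sub, valS_natPair, valS_mulT, ← sq]; push_cast; linarith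

theorem halfT_double (x : ZT) : halfT (x + x) = x := by
  simp only [halfT, Prod.ext_iff, Prod.fst_add, Prod.snd_add]; omega

theorem evenT_double (x : ZT) : evenT (x + x) = true := by
  simp only [evenT, Prod.fst_add, Prod.snd_add, Bool.and_eq_true, beq_iff_eq]; omega

set_option maxHeartbeats 1000000 in
theorem mem_small {q : Ic} (h : tpT ((4, 0) - nrmQ q) = true) : q ∈ small := by
  obtain ⟨a, b, c, d⟩ := q
  set A := mulT (0, 1) c with hA
  set B := mulT (0, 1) d with hB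
  obtain ⟨t1, t2⟩ := (tpT_iff _).1 h
  rw [valT_sub, valT_natPair] at t1
  rw [valS_sub, valS_natPair] at t2
  push_cast at t1 t2
  have f1 := congrArg valT (four_nrm (a, b, c, d))
  have f2 := congrArg valS (four_nrm (a, b, c, d))
  simp only [valT_add, valT_mulT, ← hA, ← hB] at f1
  simp only [valS_add, valS_mulT, ← hA, ← hB] at f2
  have u1 : valT A * valT A = (valT (0, 1) * valT c) * (valT (0, 1) * valT c) := by rw [hA, valT_mulT]
  have u2 : valS A * valS A = (valS (0, 1) * valS c) * (valS (0, 1) * valS c) := by rw [hA, valS_mulT]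
  have w1 : valT B * valT B = (valT (0, 1) * valT d) * (valT (0, 1) * valT d) := by rw [hB, valT_mulT]
  have w2 : valS B * valS B = (valS (0, 1) * valS d) * (valS (0, 1) * valS d) := by rw [hB, valS_mulT]
  have z1 := mul_self_nonneg (valT (sq0 (a, b, c, d)))
  have z2 := mul_self_nonneg (valS (sq0 (a, b, c, d)))
  have y1 := mul_self_nonneg (valT (sq1 (a, b, c, d)))
  have y2 := mul_self_nonneg (valS (sq1 (a, b, c, d)))
  have x1 := mul_self_nonneg (valT A)
  have x2 := mul_self_nonneg (valS A)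
  have v1 := mul_self_nonneg (valT B)
  have v2 := mul_self_nonneg (valS B)
  have hc : -sigT A = c := by
    simp only [hA, mulT, sigT, Prod.ext_iff, Prod.fst_neg, Prod.snd_neg]; constructor <;> ring
  have hd : -sigT B = d := by
    simp only [hB, mulT, sigT, Prod.ext_iff, Prod.fst_neg, Prod.snd_neg]; constructor <;> ring
  have e0 : sq0 (a, b, c, d) + sigT d - c = a + a := by simp only [sq0]; abel
  have e1 : sq1 (a, b, c, d) - sigT c - d = b + b := by simp only [sq1]; abel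
  simp only [small, smallAt, List.mem_flatMap, List.mem_filter, List.mem_map]
  refine ⟨A, mem_smallT (by rw [sq]; linarith) (by rw [sq]; linarith), B,
    ⟨mem_smallT (by rw [sq]; linarith) (by rw [sq]; linarith), (tpT_iff _).2 ⟨?_, ?_⟩⟩,
    sq0 (a, b, c, d), ⟨mem_smallT (by rw [sq]; linarith) (by rw [sq]; linarith), ?_⟩,
    ⟨sq1 (a, b, c, d), ⟨mem_smallT (by rw [sq]; linarith) (by rw [sq]; linarith), ?_⟩, ?_⟩, ?_⟩
  · rw [valT_sub, valT_sub, valT_natPair, valT_mulT A A, valT_mulT B B]; push_cast; linarith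
  · rw [valS_sub, valS_sub, valS_natPair, valS_mulT A A, valS_mulT B B]; push_cast; linarith
  · rw [hc, hd, e0]; exact evenT_double _
  · rw [hc, hd, e1]; exact evenT_double _
  · rw [hc, hd, e0, e1, halfT_double, halfT_double]
  · exact h

theorem okAll_mem : ∀ {qs : List Ic} {cs : List ℕ}, okAll qs cs = true → ∀ q ∈ qs, ∃ c, okEntry q c = true
  | [], _, _, q, hq => absurd hq List.not_mem_nil
  | _ :: _, [], h, _, _ => by simp [okAll] at h
  | _ :: qs, c :: cs, h, q, hq => by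
    simp only [okAll, Bool.and_eq_true] at h
    rcases List.mem_cons.1 hq with rfl | hq
    exacts [⟨c, h.1⟩, okAll_mem h.2 q hq]

/-- The units. -/
def unitQ (i : ℕ) : Ic := decQ (Data.units.getD i 0)

/-- The representatives of the orbits of the units. -/
def repQ (k : ℕ) : Ic := decQ (Data.reps.getD k 0)

theorem small_spec {q : Ic} (h : tpT ((4, 0) - nrmQ q) = true) :
    decQ (codeQ q) = q ∧ nrmQ q ∈ Data.norms ∧ entryOf q ∈ bucketAt (nrmQ q) (resQ q) ∧
      (q ≠ 0 → ∃ i k, i < 120 ∧ k < 51 ∧ q = mulQ (unitQ i) (repQ k)) := by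
  obtain ⟨A, hA, hq⟩ := List.mem_flatMap.1 (mem_small h)
  obtain ⟨cs, hcs⟩ := small_ok hA
  obtain ⟨c, hc⟩ := okAll_mem hcs q hq
  simp only [okEntry, Bool.and_eq_true, decide_eq_true_eq, beq_iff_eq, List.contains_iff_mem] at hc
  obtain ⟨⟨⟨⟨⟨⟨hd, hb⟩, hn⟩, hr⟩, he⟩, hp⟩, hk⟩ := hc
  refine ⟨hd, hn, ?_, fun hne => ?_⟩
  · rw [bucketAt, if_pos (by simpa using hn), ← bucketOf, hb, ← he, List.getD_eq_getElem _ _ hp]
    exact List.getElem_mem hp
  · split at hk
    · exact absurd (by simpa using hk) hne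
    · simp only [Bool.and_eq_true, decide_eq_true_eq] at hk
      exact ⟨_, _, hk.1.2, hk.1.1, hk.2⟩

theorem unitQ_nrm {i : ℕ} (hi : i < 120) : nrmQ (unitQ i) = (1, 0) := by
  obtain ⟨hl, -, h⟩ := units_ok
  simp only [List.all_eq_true, decide_eq_true_eq, List.mem_map, forall_exists_index, and_imp,
    forall_apply_eq_imp_iff₂] at h
  rw [unitQ, List.getD_eq_getElem _ _ (by omega)]
  exact h _ (List.getElem_mem _)

theorem mulQ_assoc (p q r : Ic) : mulQ (mulQ p q) r = mulQ p (mulQ q r) :=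
  phi_injective (by rw [phi_mulQ, phi_mulQ, phi_mulQ, phi_mulQ, mul_assoc])

theorem mulQ_one_left (p : Ic) : mulQ (scal (1, 0)) p = p :=
  phi_injective (by rw [phi_mulQ, phi_scal, valT_one, Quaternion.coe_one, one_mul])

theorem unit_cancel {i : ℕ} (hi : i < 120) (p : Ic) : mulQ (starQ (unitQ i)) (mulQ (unitQ i) p) = p := by
  refine phi_injective ?_
  have h : star (phi (unitQ i)) * phi (unitQ i) = 1 := by
    rw [Quaternion.star_mul_self]
    have := phi_mul_star (unitQ i)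
    rw [Quaternion.self_mul_star, unitQ_nrm hi, Quaternion.coe_inj] at this
    rw [this, valT_one, Quaternion.coe_one]
  rw [phi_mulQ, phi_mulQ, phi_starQ, ← mul_assoc, h, one_mul]

theorem unit_cancel' {i : ℕ} (hi : i < 120) (p : Ic) : mulQ (unitQ i) (mulQ (starQ (unitQ i)) p) = p := by
  refine phi_injective ?_
  rw [phi_mulQ, phi_mulQ, phi_starQ, ← mul_assoc, phi_mul_star, unitQ_nrm hi, valT_one, Quaternion.coe_one, one_mul]

/-- The `j`-th line. -/
def lineV (j : ℕ) : IV :=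
  let n := Data.lines.getD j 0
  (decQ (n % 1099511627776), decQ (n / 1099511627776 % 1099511627776), decQ (n / 1099511627776 / 1099511627776))

theorem lines_length : Data.lines.length = 315 := by decide +kernel

theorem codeQ_lt (q : Ic) (h : decQ (codeQ q) = q) : codeQ q < 1099511627776 := by
  obtain ⟨⟨a0, a1⟩, ⟨a2, a3⟩, ⟨a4, a5⟩, ⟨a6, a7⟩⟩ := q
  have hz : ∀ a : ℤ, (-16 ≤ a ∧ a < 16) → codeZ a < 32 := fun a ha => by simp only [codeZ]; omega
  have hr : ∀ n : ℕ, -16 ≤ decZ n ∧ decZ n < 16 := fun n => by simp only [decZ]; omega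
  simp only [decQ, Prod.ext_iff] at h
  have h0 := hz a0 (h.1.1 ▸ hr _)
  have h1 := hz a1 (h.1.2 ▸ hr _)
  have h2 := hz a2 (h.2.1.1 ▸ hr _)
  have h3 := hz a3 (h.2.1.2 ▸ hr _)
  have h4 := hz a4 (h.2.2.1.1 ▸ hr _)
  have h5 := hz a5 (h.2.2.1.2 ▸ hr _)
  have h6 := hz a6 (h.2.2.2.1 ▸ hr _)
  have h7 := hz a7 (h.2.2.2.2 ▸ hr _)
  simp only [codeQ]
  omega

theorem entryOf_mod (q : Ic) (h : decQ (codeQ q) = q) :
    entryOf q % 1099511627776 = codeQ q ∧ entryOf q / 1099511627776 = sumQ q := by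
  have := codeQ_lt q h
  simp only [entryOf]
  omega

theorem lineV_of_code {x y z : Ic} (hx : decQ (codeQ x) = x) (hy : decQ (codeQ y) = y) (hz : decQ (codeQ z) = z)
    (h : codeV (entryOf x) (entryOf y) (entryOf z) ∈ Data.lines) : ∃ j < 315, lineV j = (x, y, z) := by
  obtain ⟨j, hj, e⟩ := List.getElem_of_mem h
  refine ⟨j, lines_length ▸ hj, ?_⟩
  simp only [lineV, List.getD_eq_getElem _ _ hj, e, codeV, (entryOf_mod x hx).1, (entryOf_mod y hy).1,
    (entryOf_mod z hz).1]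
  have hx' := codeQ_lt x hx
  have hy' := codeQ_lt y hy
  have hz' := codeQ_lt z hz
  rw [Nat.add_mul_mod_self_left, Nat.mod_eq_of_lt hx', Nat.add_mul_div_left _ _ (by norm_num),
    Nat.div_eq_of_lt hx', Nat.zero_add, Nat.add_mul_mod_self_left, Nat.mod_eq_of_lt hy',
    Nat.add_mul_div_left _ _ (by norm_num), Nat.div_eq_of_lt hy', Nat.zero_add, hx, hy, hz]

theorem scanY_spec {ex : ℕ} {zs : List ℕ} : ∀ {ys : List ℕ}, scanY ex zs ys = true → ∀ ey ∈ ys, ∀ ez ∈ zs,
    Nat.xor (ex / 1099511627776) (Nat.xor (ey / 1099511627776) (ez / 1099511627776)) = 0 →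
      codeV ex ey ez ∈ Data.lines
  | [], _, ey, hy, _, _, _ => absurd hy List.not_mem_nil
  | y :: ys, h, ey, hy, ez, hz, hx => by
    simp only [scanY, Bool.and_eq_true, List.all_eq_true, Bool.or_eq_true, bne_iff_ne, List.contains_iff_mem] at h
    rcases List.mem_cons.1 hy with rfl | hy
    · exact (h.1 ez hz).resolve_left (fun hne => hne hx)
    · exact scanY_spec h.2 ey hy ez hz hx

theorem nrm_small {x y z : Ic} (h : nrmQ x + (nrmQ y + nrmQ z) = (4, 0)) : tpT ((4, 0) - nrmQ x) = true := by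
  rw [← h, add_sub_cancel_left, tpT_iff, valT_add, valS_add]
  exact ⟨add_nonneg (nrm_nonneg y).1 (nrm_nonneg z).1, add_nonneg (nrm_nonneg y).2 (nrm_nonneg z).2⟩

/-- A minimal vector whose first non-zero entry is a representative is listed. -/
theorem normal_listed {x y z : Ic} (hn : nrmQ x + (nrmQ y + nrmQ z) = (4, 0)) (hL : inL (x, y, z) = true)
    (hk : (∃ k < 51, x = repQ k) ∨ (x = 0 ∧ ∃ k < 51, y = repQ k) ∨ (x = 0 ∧ y = 0 ∧ ∃ k < 51, z = repQ k)) :
    ∃ j < 315, lineV j = (x, y, z) := by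
  have hx := small_spec (nrm_small hn)
  have hy := small_spec (q := y) (nrm_small (x := y) (y := x) (z := z) (by rw [← hn]; abel))
  have hz := small_spec (q := z) (nrm_small (x := z) (y := x) (z := y) (by rw [← hn]; abel))
  simp only [inL, Bool.and_eq_true, beq_iff_eq] at hL
  obtain ⟨⟨r1, r2⟩, r3⟩ := hL
  refine lineV_of_code hx.1 hy.1 hz.1 ?_
  have hxor : Nat.xor (entryOf x / 1099511627776) (Nat.xor (entryOf y / 1099511627776) (entryOf z / 1099511627776)) = 0 := by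
    rw [(entryOf_mod x hx.1).2, (entryOf_mod y hy.1).2, (entryOf_mod z hz.1).2]; exact r3
  have hmem : ∀ k < 51, Data.reps.getD k 0 ∈ Data.reps := fun k hk => by
    rw [List.getD_eq_getElem _ _ (by rw [reps_ok.1]; exact hk)]; exact List.getElem_mem _
  rcases hk with ⟨k, hk, rfl⟩ | ⟨rfl, k, hk, rfl⟩ | ⟨rfl, rfl, k, hk, rfl⟩
  · have h := List.all_eq_true.1 (List.all_eq_true.1 scan0_ok _ (hmem k hk)) _ hy.2.1
    refine scanY_spec h _ ?_ _ ?_ hxor
    · show entryOf y ∈ bucketAt (nrmQ y) (resQ (repQ k))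
      rw [r1]; exact hy.2.2.1
    · have e : (4, 0) - nrmQ (repQ k) - nrmQ y = nrmQ z := by rw [← hn]; abel
      show entryOf z ∈ bucketAt ((4, 0) - nrmQ (repQ k) - nrmQ y) (resQ (repQ k))
      rw [e, r1, r2]; exact hz.2.2.1
  · have h := List.all_eq_true.1 scan1_ok _ (hmem k hk)
    simp only [scan1, Bool.or_eq_true, bne_iff_ne] at h
    refine scanY_spec (h.resolve_left fun hne => hne r1.symm) _ (List.mem_singleton.2 rfl) _ ?_ hxor
    have e : (4, 0) - nrmQ (repQ k) = nrmQ z := by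
      rw [← hn, show nrmQ (0 : Ic) = 0 by decide]; abel
    show entryOf z ∈ bucketAt ((4, 0) - nrmQ (repQ k)) (resQ (repQ k))
    rw [e, r2]; exact hz.2.2.1
  · have h := List.all_eq_true.1 scan2_ok _ (hmem k hk)
    simp only [scan2, Bool.or_eq_true, bne_iff_ne, List.contains_iff_mem] at h
    rcases h with ((h | h) | h) | h
    · exact absurd r2.symm h
    · refine absurd ?_ h
      rw [← hn, show nrmQ (0 : Ic) = 0 by decide, zero_add, zero_add]; rfl
    · exact absurd r3 h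
    · exact h

theorem nrmQ_mulQ (p q : Ic) : valT (nrmQ (mulQ p q)) = valT (nrmQ p) * valT (nrmQ q) := by
  have h : phi (mulQ p q) * star (phi (mulQ p q)) = ((valT (nrmQ p) * valT (nrmQ q) : ℝ) : ℍ[ℝ]) := by
    rw [phi_mulQ, star_mul, mul_assoc, ← mul_assoc (phi q), phi_mul_star q, Quaternion.coe_commutes, ← mul_assoc,
      phi_mul_star p, ← Quaternion.coe_mul]
  rw [phi_mul_star, Quaternion.coe_inj] at h
  exact h

theorem parQ_mulQ_left (u a b : Ic) (h : parQ a = parQ b) : parQ (mulQ u a) = parQ (mulQ u b) := by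
  rw [parQ_eq_iff] at h ⊢
  obtain ⟨p, hp⟩ := h
  refine ⟨mulQ u p, phi_injective ?_⟩
  rw [phi_sub, phi_mulQ, phi_mulQ, phi_add, phi_mulQ, ← mul_sub, ← phi_sub, hp, phi_add, mul_add]

theorem inL_smulV {u : Ic} {v : IV} (h : inL v = true) : inL (smulV u v) = true := by
  obtain ⟨x, y, z⟩ := v
  simp only [inL, Bool.and_eq_true, beq_iff_eq, resQ, smulV, mulQ_assoc] at h ⊢
  refine ⟨⟨parQ_mulQ_left _ _ _ h.1.1, parQ_mulQ_left _ _ _ h.1.2⟩, ?_⟩
  simp only [sumQ, parQ_add, mulQ_assoc] at h ⊢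
  rw [← parQ_zero] at h
  have e := parQ_mulQ_left u _ _ h.2
  have hl : ∀ a b : Ic, mulQ u (a + b) = mulQ u a + mulQ u b := fun a b =>
    phi_injective (by rw [phi_mulQ, phi_add, phi_add, phi_mulQ, phi_mulQ, mul_add])
  rw [hl, hl, show mulQ u 0 = 0 from phi_injective (by rw [phi_mulQ, phi_zero, mul_zero]), parQ_zero] at e
  exact e

theorem starQ_unit_nrm {i : ℕ} (hi : i < 120) : valT (nrmQ (starQ (unitQ i))) = 1 := by
  have h := phi_mul_star (starQ (unitQ i))
  rw [phi_starQ, star_star, Quaternion.star_mul_self] at h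
  have h' := phi_mul_star (unitQ i)
  rw [Quaternion.self_mul_star, unitQ_nrm hi, Quaternion.coe_inj] at h'
  rw [h', Quaternion.coe_inj] at h
  rw [← h, valT_one]

theorem mulQ_zero_right (u : Ic) : mulQ u 0 = 0 := phi_injective (by rw [phi_mulQ, phi_zero, mul_zero])

theorem nrm_smul {u x y z : Ic} (hu : valT (nrmQ u) = 1) (hn : nrmQ x + (nrmQ y + nrmQ z) = (4, 0)) :
    nrmQ (mulQ u x) + (nrmQ (mulQ u y) + nrmQ (mulQ u z)) = (4, 0) := by
  apply valT_injective
  rw [valT_add, valT_add, nrmQ_mulQ, nrmQ_mulQ, nrmQ_mulQ, hu, one_mul, one_mul, one_mul, ← valT_add, ← valT_add, hn]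

theorem smulV_mk (u x y z : Ic) : smulV u (x, y, z) = (mulQ u x, mulQ u y, mulQ u z) := rfl

theorem normal_of_unit {i : ℕ} (hi : i < 120) {x y z : Ic} (hn : nrmQ x + (nrmQ y + nrmQ z) = (4, 0))
    (hL : inL (x, y, z) = true)
    (hk : (∃ k < 51, mulQ (starQ (unitQ i)) x = repQ k) ∨ (x = 0 ∧ ∃ k < 51, mulQ (starQ (unitQ i)) y = repQ k) ∨
      (x = 0 ∧ y = 0 ∧ ∃ k < 51, mulQ (starQ (unitQ i)) z = repQ k)) :
    ∃ j, j < 315 ∧ (x, y, z) = smulV (unitQ i) (lineV j) := by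
  have hL' : inL (mulQ (starQ (unitQ i)) x, mulQ (starQ (unitQ i)) y, mulQ (starQ (unitQ i)) z) = true := by
    rw [← smulV_mk]; exact inL_smulV hL
  have hn' := nrm_smul (starQ_unit_nrm hi) hn
  have hk' : (∃ k < 51, mulQ (starQ (unitQ i)) x = repQ k) ∨
      (mulQ (starQ (unitQ i)) x = 0 ∧ ∃ k < 51, mulQ (starQ (unitQ i)) y = repQ k) ∨
      (mulQ (starQ (unitQ i)) x = 0 ∧ mulQ (starQ (unitQ i)) y = 0 ∧ ∃ k < 51, mulQ (starQ (unitQ i)) z = repQ k) := by
    rcases hk with h | ⟨hx, h⟩ | ⟨hx, hy, h⟩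
    · exact Or.inl h
    · exact Or.inr (Or.inl ⟨by rw [hx, mulQ_zero_right], h⟩)
    · exact Or.inr (Or.inr ⟨by rw [hx, mulQ_zero_right], by rw [hy, mulQ_zero_right], h⟩)
  obtain ⟨j, hj, e⟩ := normal_listed hn' hL' hk'
  refine ⟨j, hj, ?_⟩
  rw [e, smulV_mk, unit_cancel' hi, unit_cancel' hi, unit_cancel' hi]

set_option maxHeartbeats 1000000 in
/-- Every minimal vector is a unit multiple of a listed one. -/
theorem exists_line {v : IV} (hn : qip (psi v) (psi v) = 4) (hL : inL v = true) :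
    ∃ i j, i < 120 ∧ j < 315 ∧ v = smulV (unitQ i) (lineV j) := by
  rw [qip_self_eq_four] at hn
  obtain ⟨x, y, z⟩ := v
  simp only at hn
  obtain ⟨i, hi, hk⟩ : ∃ i < 120, (∃ k < 51, mulQ (starQ (unitQ i)) x = repQ k) ∨
      (x = 0 ∧ ∃ k < 51, mulQ (starQ (unitQ i)) y = repQ k) ∨
      (x = 0 ∧ y = 0 ∧ ∃ k < 51, mulQ (starQ (unitQ i)) z = repQ k) := by
    by_cases hx : x = 0
    · by_cases hy : y = 0
      · have hz : z ≠ 0 := by
          rintro rfl
          rw [hx, hy, show nrmQ (0 : Ic) = 0 by decide] at hn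
          exact absurd hn (by decide)
        obtain ⟨i, k, hi, hk, e⟩ := (small_spec (q := z) (nrm_small (x := z) (y := x) (z := y) (by rw [← hn]; abel))).2.2.2 hz
        exact ⟨i, hi, Or.inr (Or.inr ⟨hx, hy, k, hk, by rw [e, unit_cancel hi]⟩)⟩
      · obtain ⟨i, k, hi, hk, e⟩ := (small_spec (q := y) (nrm_small (x := y) (y := x) (z := z) (by rw [← hn]; abel))).2.2.2 hy
        exact ⟨i, hi, Or.inr (Or.inl ⟨hx, k, hk, by rw [e, unit_cancel hi]⟩)⟩
    · obtain ⟨i, k, hi, hk, e⟩ := (small_spec (nrm_small hn)).2.2.2 hx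
      exact ⟨i, hi, Or.inl ⟨k, hk, by rw [e, unit_cancel hi]⟩⟩
  obtain ⟨j, hj, e⟩ := normal_of_unit hi hn hL hk
  exact ⟨i, j, hi, hj, e⟩

end CfsgLib.Ico
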