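import Cfsg.Agent.Lib.Ico.ActChecks

/-!
# The representatives lie in different orbits
-/

set_option autoImplicit false
set_option maxRecDepth 100000

namespace CfsgLib.Ico

open CfsgLib.Golay

set_option maxHeartbeats 4000000 in
theorem orbit_distinct : (List.range 51).all (fun k => (List.range 120).all fun i =>
    let c := codeQ (mulQ (unitQ i) (repQ k))
    Data.reps.idxOf c == k || Data.reps.idxOf c == 51) = true := by decide +kernel

set_option maxHeartbeats 4000000 in
theorem units_closed : (List.range 51).all (fun k => nrmQ (repQ k) != (1, 0) || (List.range 120).all fun i =>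
    Data.units.contains (codeQ (mulQ (unitQ i) (repQ k))) &&
      decide (decQ (codeQ (mulQ (unitQ i) (repQ k))) = mulQ (unitQ i) (repQ k))) = true := by decide +kernel

end CfsgLib.Ico
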