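import Cfsg.Agent.Lib.Ico.ClassChecks
import Cfsg.Agent.Lib.Ico.OutData

/-!
Kernel checks for the automorphisms of J2.
-/

set_option autoImplicit false
set_option maxRecDepth 100000

namespace CfsgLib.Ico

open CfsgLib.Golay

/-- A power of a code. -/
noncomputable def powCode (A : ℕ) : ℕ → ℕ
  | 0 => J2.O.one
  | k + 1 => J2.O.mul A (powCode A k)

/-- Which small powers of the product of two involutions are trivial. -/
noncomputable def sig (u v : ℕ) : List Bool :=
  let A := J2.O.mul (invCode u) (invCode v)
  [1, 2, 3, 4].map fun k => powCode A k == J2.O.one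

/-- The four generating involutions. -/
def gl (k : ℕ) : ℕ := genLine k

/-- The images of the second generator. -/
noncomputable def xList : List ℕ := (List.range 315).filter fun x => sig (gl 0) x == sig (gl 0) (gl 1)

/-- The images of the third generator. -/
noncomputable def yList : List ℕ := (List.range 315).filter fun y =>
  sig (gl 0) y == sig (gl 0) (gl 2) && sig (gl 1) y == sig (gl 1) (gl 2) &&
    sig (genImg 0 y) y == sig (genImg 0 (gl 2)) (gl 2) && sig (genImg 1 y) y == sig (genImg 1 (gl 2)) (gl 2)

/-- The images of the fourth generator. -/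
noncomputable def zList (y : ℕ) : List ℕ := (List.range 315).filter fun z =>
  sig (gl 0) z == sig (gl 0) (gl 3) && sig (gl 1) z == sig (gl 1) (gl 3) && sig y z == sig (gl 2) (gl 3) &&
    sig (genImg 0 y) z == sig (genImg 0 (gl 2)) (gl 3) && sig (genImg 1 y) z == sig (genImg 1 (gl 2)) (gl 3)

/-- The pairs of images of the last two generators. -/
noncomputable def yzList : List (ℕ × ℕ) := yList.flatMap fun y => (zList y).map fun z => (y, z)

theorem xList_len : xList.length = 64 := by decide +kernel

theorem yzList_len : yzList.length = 60 := by decide +kernel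

/-- The Sylow subgroup as a list. -/
noncomputable def sylElts : List ℕ := (J2.O.one :: OutData.sylGens) ++ OutData.sylSteps.map (·.1)

theorem syl_gens : (List.range OutData.sylGens.length).all (fun i =>
    OutData.sylGens.getD i 0 == Bsgs.prodReps J2.O J2.levels (OutData.sylIdx.getD i [])) = true := by
  decide +kernel

theorem syl_slp : Bsgs.slpCheck J2.O (J2.O.one :: OutData.sylGens) OutData.sylSteps = true ∧
    sylElts.length = 128 ∧ sylElts.Nodup ∧
    sylElts.all (fun e => PackPerm.pack (PackPerm.toL 100 e) == e) = true := by
  refine ⟨?_, ?_, ?_, ?_⟩ <;> decide +kernel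

theorem syl_closed : OutData.sylGens.all (fun g => sylElts.all fun e => sylElts.contains (J2.O.mul g e)) = true := by
  decide +kernel

theorem syl_centre : sylElts.contains (invCode (gl 0)) = true ∧
    OutData.sylGens.all (fun g => J2.O.mul g (invCode (gl 0)) == J2.O.mul (invCode (gl 0)) g) = true ∧
    sylElts.all (fun e => e == J2.O.one || e == invCode (gl 0) ||
      OutData.sylGens.any fun g => !(J2.O.mul g e == J2.O.mul e g)) = true := by
  refine ⟨?_, ?_, ?_⟩ <;> decide +kernel

theorem outer_ok : J2.O.ok OutData.outerCode = true ∧
    (List.range 4).all (fun k => decide (OutData.outerImg.getD k 0 < 315) &&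
      J2.O.mul OutData.outerCode (invCode (gl k)) ==
        J2.O.mul (invCode (OutData.outerImg.getD k 0)) OutData.outerCode) = true ∧
    OutData.outerSwaps.all (fun p => decide (p.1 < 100 ∧ p.2 < 100 ∧ p.1 ≠ p.2)) = true ∧
    OutData.outerSwaps.length % 2 = 1 := by
  refine ⟨?_, ?_, ?_, ?_⟩ <;> decide +kernel

/-- Apply the transpositions, the last one first. -/
def swapApp : List (ℕ × ℕ) → ℕ → ℕ
  | [], i => i
  | p :: rest, i =>
    let j := swapApp rest i
    if j == p.1 then p.2 else if j == p.2 then p.1 else j

theorem outer_swaps : (List.range 100).all (fun i =>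
    PackPerm.getP OutData.outerCode i == swapApp OutData.outerSwaps i) = true := by decide +kernel

end CfsgLib.Ico
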