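import Cfsg.Prelude.Def_KGroupFacts
import Cfsg.Agent.Lib.Ico.J2
import Cfsg.Agent.Lib.Ico.OutChecks

/-!
The automorphism group of J2 has order 1209600.
-/

set_option autoImplicit false
set_option maxRecDepth 4000

noncomputable section

namespace CfsgLib.Ico

open Cfsg CfsgLib.Golay

theorem packed_mulP {n A B : ℕ} (hn : n ≤ 256) (hA : validL n (PackPerm.toL n A) = true)
    (hB : validL n (PackPerm.toL n B) = true) :
    PackPerm.pack (PackPerm.toL n (PackPerm.mulP n A B)) = PackPerm.mulP n A B := by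
  rw [PackPerm.mulP, PackPerm.mulAux_eq, List.length_range,
    PackPerm.toL_pack hn (by simp) fun a ha => ?_]
  obtain ⟨i, hi, rfl⟩ := List.mem_map.1 ha
  exact PackPerm.getP_lt hA (PackPerm.getP_lt hB (List.mem_range.1 hi))

theorem mul_packed {A B : ℕ} (hA : J2.O.ok A = true) (hB : J2.O.ok B = true) :
    PackPerm.pack (PackPerm.toL 100 (J2.O.mul A B)) = J2.O.mul A B := by
  have h := packed_mulP (n := 100) (by norm_num) (valid_ok hA) (valid_ok hB)
  simp only [J2.O, PackPerm.ops]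
  exact h

theorem one_packed : PackPerm.pack (PackPerm.toL 100 J2.O.one) = J2.O.one := by decide +kernel

theorem val_inj {A B : ℕ} (hA : J2.O.ok A = true) (hB : J2.O.ok B = true)
    (pA : PackPerm.pack (PackPerm.toL 100 A) = A) (pB : PackPerm.pack (PackPerm.toL 100 B) = B)
    (h : J2.O.val A = J2.O.val B) : A = B := by
  rw [← pA, ← pB, permOf_injective (valid_ok hA) (valid_ok hB) h]

theorem pow_code {A : ℕ} (hA : J2.O.ok A = true) : ∀ k,
    J2.O.ok (powCode A k) = true ∧ PackPerm.pack (PackPerm.toL 100 (powCode A k)) = powCode A k ∧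
      J2.O.val (powCode A k) = J2.O.val A ^ k
  | 0 => ⟨J2.O.ok_one, one_packed, by rw [powCode, J2.O.val_one, pow_zero]⟩
  | k + 1 => by
    obtain ⟨h1, -, h3⟩ := pow_code hA k
    exact ⟨J2.O.ok_mul _ _ hA h1, mul_packed hA h1, by rw [powCode, J2.O.val_mul _ _ hA h1, h3, pow_succ']⟩

theorem sig_entry (i j : Fin 315) (k : ℕ) :
    (powCode (J2.O.mul (invCode i) (invCode j)) k == J2.O.one) = true ↔ (invEl i * invEl j) ^ k = 1 := by
  obtain ⟨hok, hp, hv⟩ := pow_code (J2.O.ok_mul _ _ (inv_ok i) (inv_ok j)) k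
  rw [J2.O.val_mul _ _ (inv_ok i) (inv_ok j)] at hv
  rw [beq_iff_eq, ← Subtype.coe_inj]
  simp only [Subgroup.coe_pow, Subgroup.coe_mul, Subgroup.coe_one]
  rw [show ((invEl i : (↥J2.grpJ2)) : Equiv.Perm (Fin 100)) = J2.O.val (invCode i) from rfl,
    show ((invEl j : (↥J2.grpJ2)) : Equiv.Perm (Fin 100)) = J2.O.val (invCode j) from rfl]
  constructor
  · intro h; rw [← hv, h, J2.O.val_one]
  · intro h; exact val_inj hok J2.O.ok_one hp one_packed (by rw [hv, h, J2.O.val_one])

theorem sig_map {f : (↥J2.grpJ2) → (↥J2.grpJ2)} (hf : ∀ x y, f (x * y) = f x * f y) (hinj : Function.Injective f)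
    {i j i' j' : Fin 315} (hi : f (invEl i) = invEl i') (hj : f (invEl j) = invEl j') :
    sig i'.val j'.val = sig i.val j.val := by
  let g : (↥J2.grpJ2) →* (↥J2.grpJ2) := MonoidHom.mk' f hf
  unfold sig
  dsimp only
  refine List.map_congr_left fun k _ => Bool.eq_iff_iff.2 ?_
  rw [sig_entry, sig_entry]
  constructor
  · intro h
    refine hinj ?_
    show g ((invEl i * invEl j) ^ k) = g 1
    rw [map_pow, map_mul, map_one]
    show (f (invEl i) * f (invEl j)) ^ k = 1
    rw [hi, hj, h]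
  · intro h
    have := congrArg g h
    rw [map_pow, map_mul, map_one] at this
    change (f (invEl i) * f (invEl j)) ^ k = 1 at this
    rwa [hi, hj] at this

theorem invEl_injective : Function.Injective invEl := fun _ _ h => invPerm_injective (congrArg Subtype.val h)

theorem invEl_conj (k : Fin 4) (j : Fin 315) :
    invEl (act (genSim k) j) = invEl (genIx k) * invEl j * (invEl (genIx k))⁻¹ := by
  rw [← cj_gen]
  exact (Subtype.ext (cj_spec (invEl (genIx k)) j)).symm

theorem exists_conj (j : Fin 315) : ∃ g : (↥J2.grpJ2), invEl j = g * invEl (genIx 0) * g⁻¹ := by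
  obtain ⟨g, hg, rfl⟩ := exists_gen_line j
  obtain ⟨h, hh⟩ : act g ∈ cj.range := range_act ▸ ⟨⟨g, hg⟩, rfl⟩
  exact ⟨h, by rw [← hh]; exact (Subtype.ext (cj_spec h (genIx 0))).symm⟩

/-- The Sylow subgroup. -/
def sylow0 : Subgroup (Equiv.Perm (Fin 100)) :=
  Subgroup.closure {g | ∃ r ∈ OutData.sylGens, J2.O.val r = g}

theorem syl_gens_mem : ∀ r ∈ OutData.sylGens, J2.O.ok r = true ∧ J2.O.val r ∈ J2.grpJ2 := by
  intro r hr
  obtain ⟨i, hi, rfl⟩ := List.getElem_of_mem hr
  have h := List.all_eq_true.1 syl_gens i (List.mem_range.2 hi)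
  rw [beq_iff_eq, List.getD_eq_getElem _ _ hi] at h
  rw [h]
  exact J2.levels_spec.2.2.1 _

theorem syl_elts_spec : ∀ e ∈ sylElts, J2.O.ok e = true ∧ J2.O.val e ∈ sylow0 := by
  refine Bsgs.slp_sound J2.O sylow0 syl_slp.1 fun c hc => ?_
  rcases List.mem_cons.1 hc with rfl | hc
  · exact ⟨J2.O.ok_one, J2.O.val_one ▸ one_mem _⟩
  · exact ⟨(syl_gens_mem c hc).1, Subgroup.subset_closure ⟨c, hc, rfl⟩⟩

theorem mem_sylow0 {g : Equiv.Perm (Fin 100)} (hg : g ∈ sylow0) : ∃ e ∈ sylElts, J2.O.val e = g := by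
  refine Bsgs.closure_le_of_left_mul (X := {g | ∃ e ∈ sylElts, J2.O.val e = g})
    ⟨J2.O.one, List.mem_append_left _ List.mem_cons_self, J2.O.val_one⟩ ?_ hg
  rintro _ ⟨r, hr, rfl⟩ _ ⟨e, he, rfl⟩
  have h := List.all_eq_true.1 (List.all_eq_true.1 syl_closed r hr) e he
  exact ⟨_, List.contains_iff_mem.1 h, J2.O.val_mul _ _ (syl_gens_mem r hr).1 (syl_elts_spec e he).1⟩

theorem packed_of_mem {e : ℕ} (he : e ∈ sylElts) : PackPerm.pack (PackPerm.toL 100 e) = e := by
  simpa using List.all_eq_true.1 syl_slp.2.2.2 e he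

theorem card_sylow0 : Nat.card sylow0 = 128 := by
  classical
  have e : (sylow0 : Set (Equiv.Perm (Fin 100))) = ↑((sylElts.map J2.O.val).toFinset) := by
    ext g
    simp only [List.coe_toFinset, List.mem_map, Set.mem_setOf_eq, SetLike.mem_coe]
    exact ⟨mem_sylow0, fun ⟨r, hr, h⟩ => h ▸ (syl_elts_spec r hr).2⟩
  rw [← SetLike.coe_sort_coe, Nat.card_coe_set_eq, e, Set.ncard_coe_finset,
    List.toFinset_card_of_nodup (List.Nodup.map_on (fun a ha b hb h =>
      val_inj (syl_elts_spec a ha).1 (syl_elts_spec b hb).1 (packed_of_mem ha) (packed_of_mem hb) h)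
      syl_slp.2.2.1), List.length_map, syl_slp.2.1]

theorem sylow0_le : sylow0 ≤ J2.grpJ2 :=
  (Subgroup.closure_le _).2 fun _ ⟨r, hr, h⟩ => h ▸ (syl_gens_mem r hr).2

theorem centre_facts :
    (invEl (genIx 0) : (↥J2.grpJ2)) ∈ sylow0.subgroupOf J2.grpJ2 ∧
    (∀ s ∈ sylow0.subgroupOf J2.grpJ2, s * invEl (genIx 0) = invEl (genIx 0) * s) ∧
    ∀ z ∈ sylow0.subgroupOf J2.grpJ2, (∀ s ∈ sylow0.subgroupOf J2.grpJ2, s * z = z * s) →
      z = 1 ∨ z = invEl (genIx 0) := by
  obtain ⟨ha, hcomm, hz⟩ := syl_centre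
  have haok : J2.O.ok (invCode (gl 0)) = true := inv_ok (genIx 0)
  refine ⟨(syl_elts_spec _ (List.contains_iff_mem.1 ha)).2, fun s hs => ?_, fun z hzS hc => ?_⟩
  · have : sylow0 ≤ Subgroup.centralizer {invPerm (genIx 0)} := by
      refine (Subgroup.closure_le _).2 ?_
      rintro _ ⟨r, hr, rfl⟩
      rw [SetLike.mem_coe, Subgroup.mem_centralizer_singleton_iff]
      have e := List.all_eq_true.1 hcomm r hr
      rw [beq_iff_eq] at e
      have e' := congrArg J2.O.val e
      rw [J2.O.val_mul _ _ (syl_gens_mem r hr).1 haok, J2.O.val_mul _ _ haok (syl_gens_mem r hr).1] at e'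
      exact e'
    exact Subtype.ext (Subgroup.mem_centralizer_singleton_iff.1 (this hs))
  · obtain ⟨e, he, hev⟩ := mem_sylow0 (show (z : Equiv.Perm (Fin 100)) ∈ sylow0 from hzS)
    have h := List.all_eq_true.1 hz e he
    simp only [Bool.or_eq_true, beq_iff_eq, List.any_eq_true, Bool.not_eq_true', beq_eq_false_iff_ne] at h
    rcases h with (h | h) | ⟨g, hg, hne⟩
    · exact Or.inl (Subtype.ext (by rw [← hev, h, J2.O.val_one]; rfl))
    · exact Or.inr (Subtype.ext (by rw [← hev, h]; rfl))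
    · exfalso
      obtain ⟨hgok, hgm⟩ := syl_gens_mem g hg
      obtain ⟨heok, -⟩ := syl_elts_spec e he
      have hgS : (⟨J2.O.val g, hgm⟩ : (↥J2.grpJ2)) ∈ sylow0.subgroupOf J2.grpJ2 :=
        Subgroup.subset_closure ⟨g, hg, rfl⟩
      have hc' : J2.O.val g * (z : Equiv.Perm (Fin 100)) = (z : Equiv.Perm (Fin 100)) * J2.O.val g :=
        congrArg Subtype.val (hc ⟨_, hgm⟩ hgS)
      rw [← hev, ← J2.O.val_mul _ _ hgok heok, ← J2.O.val_mul _ _ heok hgok] at hc'
      exact hne (val_inj (J2.O.ok_mul _ _ hgok heok) (J2.O.ok_mul _ _ heok hgok)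
        (mul_packed hgok heok) (mul_packed heok hgok) hc')

theorem aut_class (φ : MulAut (↥J2.grpJ2)) (j : Fin 315) : ∃ i, φ (invEl j) = invEl i := by
  suffices ∃ i, φ (invEl (genIx 0)) = invEl i by
    obtain ⟨i, hi⟩ := this
    obtain ⟨g, hg⟩ := exists_conj j
    refine ⟨cj (φ g) i, ?_⟩
    rw [hg, map_mul, map_mul, map_inv, hi]
    exact Subtype.ext (cj_spec (φ g) i)
  haveI : Fact (Nat.Prime 2) := ⟨Nat.prime_two⟩
  set S := sylow0.subgroupOf J2.grpJ2
  have hS : Nat.card S = 128 :=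
    (Nat.card_congr (Subgroup.subgroupOfEquivOfLe sylow0_le).toEquiv).trans card_sylow0
  have hfac : (Nat.card (↥J2.grpJ2)).factorization 2 = 7 := by
    rw [J2.card_grpJ2, show (604800 : ℕ) = 2 ^ 7 * 4725 by norm_num,
      Nat.factorization_mul (by norm_num) (by norm_num), Finsupp.add_apply,
      Nat.Prime.factorization_pow Nat.prime_two, Finsupp.single_eq_same,
      Nat.factorization_eq_zero_of_not_dvd (by norm_num)]
  let P : Sylow 2 (↥J2.grpJ2) := Sylow.ofCard S (by rw [hfac, hS]; norm_num)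
  have hS' : Nat.card (S.map φ.toMonoidHom) = 128 :=
    (Nat.card_congr (S.equivMapOfInjective _ φ.injective).toEquiv).symm.trans hS
  let Q : Sylow 2 (↥J2.grpJ2) := Sylow.ofCard (S.map φ.toMonoidHom) (by rw [hfac, hS']; norm_num)
  obtain ⟨g, hg⟩ := MulAction.exists_smul_eq (↥J2.grpJ2) P Q
  have hQ : S.map φ.toMonoidHom = S.map (MulAut.conj g).toMonoidHom := by
    have e := congrArg (fun R : Sylow 2 (↥J2.grpJ2) => (R : Subgroup (↥J2.grpJ2))) hg
    simp only [Sylow.coe_subgroup_smul] at e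
    exact e.symm
  obtain ⟨haS, hacomm, huniq⟩ := centre_facts
  obtain ⟨z, hzS, hz⟩ : φ (invEl (genIx 0)) ∈ S.map (MulAut.conj g).toMonoidHom :=
    hQ ▸ ⟨_, haS, rfl⟩
  rcases huniq z hzS (fun s hs => by
    obtain ⟨s', hs', e⟩ : MulAut.conj g s ∈ S.map φ.toMonoidHom := hQ.symm ▸ ⟨s, hs, rfl⟩
    have e' : φ s' = MulAut.conj g s := e
    have hz' : MulAut.conj g z = φ (invEl (genIx 0)) := hz
    apply (MulAut.conj g).injective
    rw [map_mul, map_mul, hz', ← e', ← map_mul, ← map_mul, hacomm s' hs']) with rfl | rfl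
  · exfalso
    rw [map_one] at hz
    have h1 : invEl (genIx 0) = 1 := φ.injective (hz.symm.trans (map_one φ).symm)
    have h2 : ∀ i, invEl i = 1 := fun i => by
      obtain ⟨c, hc⟩ := exists_conj i
      rw [hc, h1, mul_one, mul_inv_cancel]
    exact absurd (invEl_injective ((h2 0).trans (h2 1).symm)) (by decide)
  · exact ⟨cj g (genIx 0), hz.symm.trans (Subtype.ext (cj_spec g (genIx 0)))⟩

/-- The index of the image of a class element. -/
def autIdx (φ : MulAut (↥J2.grpJ2)) (j : Fin 315) : Fin 315 := (aut_class φ j).choose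

theorem autIdx_spec (φ : MulAut (↥J2.grpJ2)) (j : Fin 315) : φ (invEl j) = invEl (autIdx φ j) :=
  (aut_class φ j).choose_spec

theorem autIdx_sig (φ : MulAut (↥J2.grpJ2)) (i j : Fin 315) :
    sig (autIdx φ i).val (autIdx φ j).val = sig i.val j.val :=
  sig_map (map_mul φ) φ.injective (autIdx_spec φ i) (autIdx_spec φ j)

theorem autIdx_act (φ : MulAut (↥J2.grpJ2)) (k : Fin 4) (j : Fin 315) (hk : autIdx φ (genIx k) = genIx k) :
    autIdx φ (act (genSim k) j) = act (genSim k) (autIdx φ j) := by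
  refine invEl_injective ?_
  rw [← autIdx_spec, invEl_conj, map_mul, map_mul, map_inv, autIdx_spec φ j, autIdx_spec φ (genIx k), hk,
    invEl_conj]

theorem aut_ext {φ ψ : MulAut (↥J2.grpJ2)} (h : ∀ k, autIdx φ (genIx k) = autIdx ψ (genIx k)) : φ = ψ := by
  refine MulEquiv.toMonoidHom_injective (MonoidHom.eq_of_eqOn_dense invEl_closure ?_)
  rintro _ ⟨k, rfl⟩
  show φ (invEl (genIx k)) = ψ (invEl (genIx k))
  rw [autIdx_spec, autIdx_spec, h k]

theorem card_bound {X : Type*} [Group X] [Finite X] {α : Type*} (F : X → α) (S : Subgroup X) (L : Finset α)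
    (hL : ∀ x, F x ∈ L) (hF : ∀ x y, F x = F y → x⁻¹ * y ∈ S) : Nat.card X ≤ L.card * Nat.card S := by
  classical
  have : Nat.card (X ⧸ S) ≤ L.card := by
    rw [← Nat.card_eq_finsetCard L]
    refine Nat.card_le_card_of_surjective (α := {a // a ∈ L}) (fun a =>
      if h : ∃ x, F x = a.val then QuotientGroup.mk h.choose else QuotientGroup.mk 1) ?_
    intro q
    induction q using QuotientGroup.induction_on with
    | _ x =>
      refine ⟨⟨F x, hL x⟩, ?_⟩
      have h : ∃ y, F y = F x := ⟨x, rfl⟩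
      simp only
      rw [dif_pos h]
      exact QuotientGroup.eq.2 (hF _ _ h.choose_spec)
  rw [Subgroup.card_eq_card_quotient_mul_card_subgroup S]
  exact Nat.mul_le_mul_right _ this

/-- The automorphisms fixing given class elements. -/
def fixIdx (j : Fin 315) : Subgroup (MulAut (↥J2.grpJ2)) where
  carrier := {φ | φ (invEl j) = invEl j}
  one_mem' := rfl
  mul_mem' {φ ψ} hφ hψ := by
    show φ (ψ (invEl j)) = invEl j
    rw [show ψ (invEl j) = invEl j from hψ, show φ (invEl j) = invEl j from hφ]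
  inv_mem' {φ} hφ := by
    show φ⁻¹ (invEl j) = invEl j
    conv_lhs => rw [← show φ (invEl j) = invEl j from hφ]
    exact φ.symm_apply_apply _

theorem autIdx_of_fix {φ : MulAut (↥J2.grpJ2)} {j : Fin 315} (h : φ ∈ fixIdx j) : autIdx φ j = j :=
  invEl_injective ((autIdx_spec φ j).symm.trans h)

theorem fix_of_eq {φ ψ : MulAut (↥J2.grpJ2)} {j : Fin 315} (h : autIdx φ j = autIdx ψ j) : φ⁻¹ * ψ ∈ fixIdx j := by
  show φ⁻¹ (ψ (invEl j)) = invEl j
  rw [autIdx_spec ψ j, ← h, ← autIdx_spec φ j]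
  exact φ.symm_apply_apply _

theorem card_fix_two :
    Nat.card ↥(fixIdx (genIx 0) ⊓ fixIdx (genIx 1)) ≤ 60 := by
  classical
  set S := fixIdx (genIx 0) ⊓ fixIdx (genIx 1)
  let f : S → ℕ × ℕ := fun φ => ((autIdx φ.val (genIx 2)).val, (autIdx φ.val (genIx 3)).val)
  have hinj : Function.Injective f := fun φ ψ h => Subtype.ext (aut_ext fun k => by
    obtain ⟨h2, h3⟩ := Prod.mk.injEq .. ▸ h
    fin_cases k
    · exact (autIdx_of_fix φ.2.1).trans (autIdx_of_fix ψ.2.1).symm
    · exact (autIdx_of_fix φ.2.2).trans (autIdx_of_fix ψ.2.2).symm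
    · exact Fin.ext h2
    · exact Fin.ext h3)
  have hmem : ∀ φ, f φ ∈ yzList.toFinset := by
    rintro ⟨φ, hφ0, hφ1⟩
    have h0 := autIdx_of_fix hφ0
    have h1 := autIdx_of_fix hφ1
    have hs : ∀ i j, sig (autIdx φ i).val (autIdx φ j).val = sig i.val j.val := autIdx_sig φ
    have a2 := hs (genIx 0) (genIx 2)
    have b2 := hs (genIx 1) (genIx 2)
    have a3 := hs (genIx 0) (genIx 3)
    have b3 := hs (genIx 1) (genIx 3)
    have c3 := hs (genIx 2) (genIx 3)
    have w0 := hs (act (genSim 0) (genIx 2)) (genIx 2)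
    have w1 := hs (act (genSim 1) (genIx 2)) (genIx 2)
    have v0 := hs (act (genSim 0) (genIx 2)) (genIx 3)
    have v1 := hs (act (genSim 1) (genIx 2)) (genIx 3)
    rw [autIdx_act φ 0 _ h0] at w0 v0
    rw [autIdx_act φ 1 _ h1] at w1 v1
    rw [act_tbl, act_tbl] at w0 v0 w1 v1
    rw [h0] at a2 a3
    rw [h1] at b2 b3
    simp only [List.mem_toFinset, yzList, List.mem_flatMap, List.mem_map, yList, zList, List.mem_filter,
      List.mem_range, Bool.and_eq_true, beq_iff_eq]
    exact ⟨_, ⟨(autIdx φ (genIx 2)).isLt, ⟨⟨a2, b2⟩, w0⟩, w1⟩, _,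
      ⟨(autIdx φ (genIx 3)).isLt, ⟨⟨⟨a3, b3⟩, c3⟩, v0⟩, v1⟩, rfl⟩
  have := Nat.card_le_card_of_injective (fun φ : S => (⟨f φ, hmem φ⟩ : {p // p ∈ yzList.toFinset}))
    fun a b h => hinj (congrArg Subtype.val h)
  rw [Nat.card_eq_finsetCard] at this
  exact this.trans ((List.toFinset_card_le _).trans yzList_len.le)

theorem card_aut_le : Nat.card (MulAut (↥J2.grpJ2)) ≤ 1209600 := by
  classical
  have h1 := card_bound (fun φ : MulAut (↥J2.grpJ2) => autIdx φ (genIx 0)) (fixIdx (genIx 0)) Finset.univ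
    (fun _ => Finset.mem_univ _) fun φ ψ h => fix_of_eq h
  rw [Finset.card_univ, Fintype.card_fin] at h1
  let L : Finset ℕ := xList.toFinset
  have hle := Subgroup.subgroupOfEquivOfLe (inf_le_left : fixIdx (genIx 0) ⊓ fixIdx (genIx 1) ≤ fixIdx (genIx 0))
  have h2 := card_bound (fun φ : fixIdx (genIx 0) => (autIdx φ.val (genIx 1)).val)
    ((fixIdx (genIx 0) ⊓ fixIdx (genIx 1)).subgroupOf (fixIdx (genIx 0))) L
    (fun φ => by
      have e := autIdx_sig φ.val (genIx 0) (genIx 1)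
      rw [autIdx_of_fix φ.2] at e
      simp only [L, List.mem_toFinset, xList, List.mem_filter, List.mem_range, beq_iff_eq]
      exact ⟨(autIdx φ.val (genIx 1)).isLt, e⟩)
    (fun φ ψ h => by
      rw [Subgroup.mem_subgroupOf]
      exact ⟨(φ⁻¹ * ψ).2, fix_of_eq (Fin.ext h)⟩)
  rw [Nat.card_congr hle.toEquiv] at h2
  have hL : L.card ≤ 64 := (List.toFinset_card_le _).trans xList_len.le
  have := Nat.mul_le_mul hL card_fix_two
  omega

/-- The outer permutation. -/
def outerPerm : Equiv.Perm (Fin 100) := J2.O.val OutData.outerCode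

theorem outer_conj_mem {g : Equiv.Perm (Fin 100)} (hg : g ∈ J2.grpJ2) :
    outerPerm * g * outerPerm⁻¹ ∈ J2.grpJ2 := by
  suffices ∀ x : (↥J2.grpJ2), outerPerm * x.val * outerPerm⁻¹ ∈ J2.grpJ2 from this ⟨g, hg⟩
  intro x
  have hx : x ∈ Subgroup.closure (Set.range fun k : Fin 4 => invEl (genIx k)) := invEl_closure ▸ Subgroup.mem_top x
  induction hx using Subgroup.closure_induction with
  | mem y hy =>
    obtain ⟨k, rfl⟩ := hy
    obtain ⟨hok, himg, -, -⟩ := outer_ok
    have h := List.all_eq_true.1 himg k.val (List.mem_range.2 k.isLt)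
    simp only [Bool.and_eq_true, decide_eq_true_eq, beq_iff_eq] at h
    have h2 : J2.O.mul OutData.outerCode (invCode (genIx k).val) =
        J2.O.mul (invCode (OutData.outerImg.getD k.val 0)) OutData.outerCode := h.2
    have e := congrArg J2.O.val h2
    rw [J2.O.val_mul _ _ hok (inv_ok (genIx k)), J2.O.val_mul _ _ (inv_ok ⟨_, h.1⟩) hok] at e
    show outerPerm * invPerm (genIx k) * outerPerm⁻¹ ∈ _
    rw [show outerPerm * invPerm (genIx k) = invPerm ⟨_, h.1⟩ * outerPerm from e, mul_inv_cancel_right]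
    exact invPerm_mem _
  | one => simp
  | mul a b _ _ ha hb =>
    rw [Subgroup.coe_mul, show outerPerm * (a.val * b.val) * outerPerm⁻¹ =
      (outerPerm * a.val * outerPerm⁻¹) * (outerPerm * b.val * outerPerm⁻¹) by group]
    exact mul_mem ha hb
  | inv a _ ha =>
    rw [Subgroup.coe_inv, show outerPerm * a.val⁻¹ * outerPerm⁻¹ = (outerPerm * a.val * outerPerm⁻¹)⁻¹ by group]
    exact inv_mem ha

/-- The automorphism induced by the outer permutation. -/
def outerAut : MulAut (↥J2.grpJ2) :=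
  MulEquiv.ofBijective (MonoidHom.mk' (fun g : (↥J2.grpJ2) => (⟨outerPerm * g.val * outerPerm⁻¹, outer_conj_mem g.2⟩ : (↥J2.grpJ2)))
    fun a b => Subtype.ext (by show outerPerm * (a.val * b.val) * outerPerm⁻¹ = _; simp [mul_assoc]))
    (Finite.injective_iff_bijective.1 fun a b h =>
      Subtype.ext (mul_left_cancel (mul_right_cancel (congrArg Subtype.val h))))

theorem swap_sign : ∀ (l : List (ℕ × ℕ)), (∀ p ∈ l, p.1 < 100 ∧ p.2 < 100 ∧ p.1 ≠ p.2) →
    ∃ σ : Equiv.Perm (Fin 100), Equiv.Perm.sign σ = (-1) ^ l.length ∧ ∀ i : Fin 100, (σ i).val = swapApp l i.val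
  | [], _ => ⟨1, by simp, fun i => rfl⟩
  | (a, b) :: l, h => by
    obtain ⟨σ, hs, ha⟩ := swap_sign l fun q hq => h q (List.mem_cons_of_mem _ hq)
    obtain ⟨h1, h2, h3⟩ := h (a, b) List.mem_cons_self
    refine ⟨Equiv.swap ⟨a, h1⟩ ⟨b, h2⟩ * σ, ?_, fun i => ?_⟩
    · rw [map_mul, Equiv.Perm.sign_swap (fun e => h3 (congrArg Fin.val e)), hs, List.length_cons, pow_succ']
    · rw [Equiv.Perm.mul_apply, Equiv.swap_apply_def]
      simp only [swapApp, ← ha i, beq_iff_eq]
      split_ifs with e1 e2 e3 e4 e5 e6 <;> first | rfl | (simp [Fin.ext_iff] at *; omega)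

theorem outer_sign : Equiv.Perm.sign outerPerm = -1 := by
  obtain ⟨hok, -, hsw, hlen⟩ := outer_ok
  obtain ⟨σ, hs, hσ⟩ := swap_sign OutData.outerSwaps fun q hq => by simpa using List.all_eq_true.1 hsw q hq
  have e : outerPerm = σ := by
    refine Equiv.ext fun i => Fin.ext ?_
    rw [hσ i]
    have h := List.all_eq_true.1 outer_swaps i.val (List.mem_range.2 i.isLt)
    rw [beq_iff_eq] at h
    rw [← h]
    exact (permOf_apply (Equiv.refl (Fin 100)) (valid_ok hok) i).trans (PackPerm.toL_getD _ i.isLt)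
  rw [e, hs, (Nat.odd_iff.2 hlen).neg_one_pow]

theorem sign_grpJ2 {g : Equiv.Perm (Fin 100)} (hg : g ∈ J2.grpJ2) : Equiv.Perm.sign g = 1 := by
  have h : ⁅J2.grpJ2, J2.grpJ2⁆ ≤ (Equiv.Perm.sign (α := Fin 100)).ker := by
    rw [Subgroup.commutator_le]
    intro a _ b _
    rw [MonoidHom.mem_ker, map_commutatorElement, commutatorElement_eq_one_iff_mul_comm]
    exact mul_comm _ _
  exact MonoidHom.mem_ker.1 (h (J2.grpJ2_perfect hg))

theorem centraliser_trivial_j2 {c : Equiv.Perm (Fin 100)} (hc : ∀ g ∈ J2.grpJ2, g * c = c * g) : c = 1 := by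
  haveI := J2.pretransitive
  have hzero : J2.O.pt 0 = (0 : Fin 100) := J2.pt_eq (by norm_num)
  have hfix : ∀ g ∈ Bsgs.grp J2.O J2.levels.tail, g (c 0) = c 0 := fun g hg => by
    have h0 : g 0 = 0 := by
      have := J2.tail_spec.1 g hg 0 (by simp)
      rwa [hzero] at this
    calc g (c 0) = (g * c) 0 := rfl
      _ = (c * g) 0 := by rw [hc g (J2.tail_le hg)]
      _ = c 0 := by rw [Equiv.Perm.mul_apply, h0]
  have horb : ∀ o, J2.orbCheck (Bsgs.allGens J2.levels.tail) o = true → o.1.Nodup → 2 ≤ o.1.length →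
      (c 0).val ∉ o.1 := by
    intro o ho hnd hlen hin
    have hlt : ∀ a ∈ o.1, a < 100 := by
      simp only [J2.orbCheck, Bool.and_eq_true, List.all_eq_true, decide_eq_true_eq] at ho
      exact ho.1.2
    obtain ⟨g, hg, hgp⟩ := J2.orbCheck_reach ho hin
    have hall : ∀ a ∈ o.1, a = (c 0).val := fun a ha => by
      obtain ⟨g', hg', hgp'⟩ := J2.orbCheck_reach ho ha
      rw [J2.pt_eq (hlt a ha)] at hgp'
      rw [J2.pt_eq (hlt _ hin), Fin.eta] at hgp
      have e := hfix g⁻¹ (inv_mem hg)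
      have e0 : J2.O.pt (o.1.getD 0 0) = c 0 := by
        rw [← e, ← hgp]; exact (g.symm_apply_apply _).symm
      rw [e0] at hgp'
      have := (hfix g' hg').symm.trans hgp'
      exact (congrArg Fin.val this).symm
    have := List.Nodup.getElem_inj_iff hnd (i := 0) (j := 1) (hi := by omega) (hj := by omega)
    exact absurd (this.1 ((hall _ (List.getElem_mem _)).trans (hall _ (List.getElem_mem _)).symm)) (by omega)
  have h0 : c 0 = 0 := by
    obtain ⟨o36, o63, hcover, l36, l63, hnd⟩ := J2.orb_ok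
    rw [List.nodup_append] at hnd
    have h := List.all_eq_true.1 hcover (c 0).val (List.mem_range.2 (c 0).isLt)
    simp only [Bool.or_eq_true, beq_iff_eq, List.contains_iff_mem] at h
    rcases h with (h | h) | h
    · exact Fin.ext h
    · exact absurd h (horb _ o36 hnd.1 (by omega))
    · exact absurd h (horb _ o63 hnd.2.1 (by omega))
  refine Equiv.ext fun i => ?_
  obtain ⟨g, rfl⟩ := MulAction.exists_smul_eq J2.grpJ2 (0 : Fin 100) i
  have e := Equiv.ext_iff.1 (hc g.val g.2) 0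
  rw [Equiv.Perm.mul_apply, Equiv.Perm.mul_apply, h0] at e
  exact e.symm

theorem conjJ_injective : Function.Injective (MulAut.conj : (↥J2.grpJ2) →* MulAut (↥J2.grpJ2)) := by
  refine (injective_iff_map_eq_one _).2 fun g hg => Subtype.ext (centraliser_trivial_j2 fun x hx => ?_)
  have e := congrArg Subtype.val (MulEquiv.ext_iff.1 hg ⟨x, hx⟩)
  exact (mul_inv_eq_iff_eq_mul.1 e).symm

theorem outerAut_not_inner : outerAut ∉ (Inn (↥J2.grpJ2)) := by
  rintro ⟨g, hg⟩
  have hc : (g.val)⁻¹ * outerPerm = 1 := centraliser_trivial_j2 fun x hx => by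
    have e : g.val * x * (g.val)⁻¹ = outerPerm * x * outerPerm⁻¹ :=
      congrArg Subtype.val (MulEquiv.ext_iff.1 hg ⟨x, hx⟩)
    calc x * ((g.val)⁻¹ * outerPerm) = (g.val)⁻¹ * (g.val * x * (g.val)⁻¹) * outerPerm := by group
      _ = (g.val)⁻¹ * (outerPerm * x * outerPerm⁻¹) * outerPerm := by rw [e]
      _ = (g.val)⁻¹ * outerPerm * x := by group
  have : outerPerm = g.val := (inv_mul_eq_one.1 hc).symm
  have h := sign_grpJ2 g.2
  rw [← this, outer_sign] at h
  exact absurd h (by decide)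

theorem index_two_of_bound {X : Type*} [Group X] [Finite X] {H : Subgroup X} {x : X} (hx : x ∉ H) {n : ℕ}
    (hH : Nat.card H = n) (hX : Nat.card X ≤ 2 * n) : H.index = 2 := by
  have h := H.index_mul_card
  have hpos : 0 < Nat.card H := Nat.card_pos
  have h1 : H.index ≠ 1 := fun e => hx (Subgroup.index_eq_one.1 e ▸ Subgroup.mem_top x)
  have h0 : H.index ≠ 0 := Subgroup.index_ne_zero_of_finite
  have : H.index ≤ 2 := Nat.le_of_mul_le_mul_right (by rw [h]; subst hH; exact hX) hpos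
  omega

theorem card_out_grpJ2 : Nat.card (Out (↥J2.grpJ2)) = 2 := by
  rw [← Subgroup.index_eq_card]
  exact index_two_of_bound outerAut_not_inner
    ((Nat.card_congr (MonoidHom.ofInjective conjJ_injective).toEquiv).symm.trans J2.card_grpJ2)
    card_aut_le

end CfsgLib.Ico
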