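import Cfsg.Agent.Lib.Ico.U33Iso

/-!
# The Hall-Janko group on the cosets of the unitary group
-/

set_option autoImplicit false
set_option maxRecDepth 100000

noncomputable section

namespace CfsgLib.Ico

open CfsgLib.Golay

set_option maxHeartbeats 4000000 in
theorem orb_closed : (Bsgs.allGens J2.levels.tail).all (fun s =>
    J2.orb36.1.all (fun a => J2.orb36.1.contains (J2.O.img s a)) &&
      J2.orb63.1.all (fun a => J2.orb63.1.contains (J2.O.img s a))) = true := by decide +kernel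

theorem orbit_tail {o : List ℕ × List (ℕ × ℕ)}
    (ho : J2.orbCheck (Bsgs.allGens J2.levels.tail) o = true)
    (hcl : ∀ s ∈ Bsgs.allGens J2.levels.tail, ∀ a ∈ o.1, J2.O.img s a ∈ o.1)
    (hne : 0 < o.1.length) (hnd : o.1.Nodup) :
    (MulAction.orbit U33.tailGrp (J2.O.pt (o.1.getD 0 0))).ncard = o.1.length := by
  classical
  have hlt : ∀ a ∈ o.1, a < 100 := fun a ha => by
    simp only [J2.orbCheck, Bool.and_eq_true, List.all_eq_true, decide_eq_true_eq] at ho
    exact ho.1.2 a ha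
  set S : Set (Fin 100) := ↑(o.1.toFinset.image fun a => J2.O.pt a) with hSdef
  have hS : MulAction.orbit U33.tailGrp (J2.O.pt (o.1.getD 0 0)) = S := by
    apply Set.Subset.antisymm
    · rintro _ ⟨⟨g, hg⟩, rfl⟩
      show g • J2.O.pt (o.1.getD 0 0) ∈ S
      have hstep : ∀ x ∈ S, g • x ∈ S := by
        refine Subgroup.closure_induction'' (p := fun g _ => ∀ x ∈ S, g • x ∈ S) ?_ ?_ ?_ ?_ hg
        · rintro _ ⟨s, hs, rfl⟩ x hx
          simp only [hSdef, Finset.coe_image, Set.mem_image, List.coe_toFinset, Set.mem_ofPred_eq] at hx ⊢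
          obtain ⟨a, ha, rfl⟩ := hx
          exact ⟨_, hcl s hs a ha, ((J2.O.pt_img s a (J2.tail_spec.2 s hs) (decide_eq_true (hlt a ha))).1).symm⟩
        · rintro _ ⟨s, hs, rfl⟩ x hx
          have hmaps : Set.MapsTo (fun x => J2.O.val s • x) S S := by
            intro y hy
            simp only [hSdef, Finset.coe_image, Set.mem_image, List.coe_toFinset, Set.mem_ofPred_eq] at hy ⊢
            obtain ⟨a, ha, rfl⟩ := hy
            exact ⟨_, hcl s hs a ha, ((J2.O.pt_img s a (J2.tail_spec.2 s hs) (decide_eq_true (hlt a ha))).1).symm⟩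
          obtain ⟨y, hy, hyx⟩ := ((S.toFinite.injOn_iff_bijOn_of_mapsTo hmaps).1
            (MulAction.injective _).injOn).surjOn hx
          rw [← hyx]
          simp only [inv_smul_smul]
          exact hy
        · intro x hx; rwa [one_smul]
        · intro a b _ _ ha hb x hx; rw [mul_smul]; exact ha _ (hb x hx)
      refine hstep _ ?_
      simp only [hSdef, Finset.coe_image, Set.mem_image, List.coe_toFinset, Set.mem_ofPred_eq]
      exact ⟨_, by rw [List.getD_eq_getElem _ _ hne]; exact List.getElem_mem _, rfl⟩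
    · intro x hx
      simp only [hSdef, Finset.coe_image, Set.mem_image, List.coe_toFinset, Set.mem_ofPred_eq] at hx
      obtain ⟨a, ha, rfl⟩ := hx
      obtain ⟨g, hg, e⟩ := J2.orbCheck_reach ho ha
      exact ⟨⟨g, hg⟩, e⟩
  rw [hS, hSdef, Set.ncard_coe_finset, Finset.card_image_of_injOn ?_, List.toFinset_card_of_nodup hnd]
  intro a ha b hb hab
  simp only [List.coe_toFinset, Set.mem_ofPred_eq] at ha hb
  simp only [J2.pt_eq (hlt a ha), J2.pt_eq (hlt b hb)] at hab
  simpa using hab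

theorem rank_three : ∃ H : Subgroup Cfsg.Spor.J2, H.index = 100 ∧
    (∃ (F : Type) (_ : Field F) (_ : Fintype F), Fintype.card F = 9 ∧ Nonempty (↥H ≃* Cfsg.PSU 3 F 3)) ∧
    ∃ c₁ c₂ : Cfsg.Spor.J2 ⧸ H,
      (MulAction.orbit ↥H c₁).ncard = 36 ∧ (MulAction.orbit ↥H c₂).ncard = 63 := by
  obtain ⟨e⟩ := j2_equiv
  haveI := J2.pretransitive
  letI : MulAction Cfsg.Spor.J2 (Fin 100) := MulAction.compHom _ e.toMonoidHom
  have hsm : ∀ (a : Cfsg.Spor.J2) (i : Fin 100), a • i = (e a : Equiv.Perm (Fin 100)) • i := fun _ _ => rfl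
  have htrans : ∀ i : Fin 100, ∃ a : Cfsg.Spor.J2, a • (0 : Fin 100) = i := fun i => by
    obtain ⟨g, hg⟩ := MulAction.exists_smul_eq J2.grpJ2 (0 : Fin 100) i
    exact ⟨e.symm g, by rw [hsm, e.apply_symm_apply]; exact hg⟩
  set H := MulAction.stabilizer Cfsg.Spor.J2 (0 : Fin 100) with hH
  have horb : MulAction.orbit Cfsg.Spor.J2 (0 : Fin 100) = Set.univ := Set.eq_univ_of_forall htrans
  have htail : U33.tailGrp ≤ J2.grpJ2 := J2.tail_le
  have hfix : ∀ g ∈ U33.tailGrp, g • (0 : Fin 100) = 0 := fun g hg => by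
    have := J2.tail_spec.1 g hg 0 (by simp)
    rwa [show J2.O.pt 0 = (0 : Fin 100) from J2.pt_eq (by norm_num)] at this
  let ι : H ≃* U33.tailGrp :=
    { toFun := fun a => ⟨(e a.1 : Equiv.Perm (Fin 100)), U33.mem_tailGrp (e a.1).2 a.2⟩
      invFun := fun g => ⟨e.symm ⟨g.1, htail g.2⟩, by
        show _ • (0 : Fin 100) = 0
        rw [hsm, e.apply_symm_apply]; exact hfix _ g.2⟩
      left_inv := fun a => Subtype.ext (by simp)
      right_inv := fun g => Subtype.ext (by simp)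
      map_mul' := fun a b => Subtype.ext (by simp) }
  have hcount : ∀ (i : Fin 100), ∃ c : Cfsg.Spor.J2 ⧸ H,
      (MulAction.orbit ↥H c).ncard = (MulAction.orbit U33.tailGrp i).ncard := fun i => by
    obtain ⟨a, ha⟩ := htrans i
    let Φ := MulAction.ofQuotientStabilizer Cfsg.Spor.J2 (0 : Fin 100)
    have hΦ : ∀ (h : Cfsg.Spor.J2) (c : Cfsg.Spor.J2 ⧸ H), Φ (h • c) = h • Φ c := fun h c =>
      MulAction.ofQuotientStabilizer_smul _ _ _ _
    refine ⟨QuotientGroup.mk a, ?_⟩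
    rw [← Set.ncard_image_of_injective _ (MulAction.injective_ofQuotientStabilizer Cfsg.Spor.J2 (0 : Fin 100))]
    congr 1
    ext x
    constructor
    · rintro ⟨_, ⟨h, rfl⟩, rfl⟩
      refine ⟨ι h, ?_⟩
      show (e h.1 : Equiv.Perm (Fin 100)) • i = Φ (h.1 • QuotientGroup.mk a)
      rw [hΦ, ← ha]
      rfl
    · rintro ⟨g, rfl⟩
      refine ⟨_, ⟨ι.symm g, rfl⟩, ?_⟩
      show Φ ((ι.symm g).1 • QuotientGroup.mk a) = g • i
      rw [hΦ, ← ha]
      have hg : (e (ι.symm g).1 : Equiv.Perm (Fin 100)) = g.1 := congrArg Subtype.val (ι.apply_symm_apply g)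
      show (e (ι.symm g).1 : Equiv.Perm (Fin 100)) • (a • (0 : Fin 100)) = g.1 • (a • (0 : Fin 100))
      rw [hg]
  haveI : Fintype (GaloisField 3 2) := Fintype.ofFinite _
  refine ⟨H, ?_, ⟨GaloisField 3 2, inferInstance, inferInstance, ?_, ?_⟩, ?_⟩
  · rw [hH, MulAction.index_stabilizer, horb, Set.ncard_univ, Nat.card_fin]
  · rw [← Nat.card_eq_fintype_card, GaloisField.card 3 2 (by norm_num)]; norm_num
  · obtain ⟨κ⟩ := U33.tail_equiv_su (F := GaloisField 3 2)
      (by rw [← Nat.card_eq_fintype_card, GaloisField.card 3 2 (by norm_num)]; norm_num)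
    exact ⟨ι.trans κ⟩
  · obtain ⟨ho1, ho2, -, hl1, hl2, hnd⟩ := J2.orb_ok
    rw [List.nodup_append] at hnd
    have hcl := orb_closed
    simp only [List.all_eq_true, Bool.and_eq_true, List.contains_iff_mem] at hcl
    obtain ⟨c₁, h1⟩ := hcount (J2.O.pt (J2.orb36.1.getD 0 0))
    obtain ⟨c₂, h2⟩ := hcount (J2.O.pt (J2.orb63.1.getD 0 0))
    refine ⟨c₁, c₂, ?_, ?_⟩
    · rw [h1, orbit_tail ho1 (fun s hs => (hcl s hs).1) (by rw [hl1]; norm_num) hnd.1, hl1]
    · rw [h2, orbit_tail ho2 (fun s hs => (hcl s hs).2) (by rw [hl2]; norm_num) hnd.2.1, hl2]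

end CfsgLib.Ico
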