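import Cfsg.Agent.Lib.Ico.Minimal
import Cfsg.Agent.Lib.Ico.Generators

/-!
# Reflections of the icosian lattice
-/

set_option autoImplicit false

noncomputable section

namespace CfsgLib.Ico

open Cfsg.Spor Quaternion

/-- Points of the lattice. -/
abbrev Pt : Type := icoLeech

/-- A point from coordinates. -/
def mkPt (v : IV) (h : inL v = true) : Pt := ⟨psi v, (psi_mem_iff v).2 h⟩

theorem exists_mkPt (x : Pt) : ∃ v, ∃ h : inL v = true, mkPt v h = x := by
  obtain ⟨v, hv, h⟩ := exists_psi x.2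
  exact ⟨v, h, Subtype.ext hv⟩

theorem parV_double (w : IV) : parV (w + w) = 0 := by
  have h : ∀ a : Ic, parQ (a + a) = 0 := fun a => by
    rw [← parQ_zero, parQ_eq_iff]; exact ⟨a, sub_zero _⟩
  simp [parV, h]

theorem inL_zero : inL 0 = true := by decide

theorem inL_double (w : IV) : inL (w + w) = true := by
  rw [inL_congr (w := 0) ((parV_double w).trans rfl), inL_zero]

theorem inL_neg {v : IV} (h : inL v = true) : inL (-v) = true := by rw [inL_congr (parV_neg v), h]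

theorem inL_sub {v w : IV} (hv : inL v = true) (hw : inL w = true) : inL (v - w) = true := by
  rw [sub_eq_add_neg]; exact inL_add hv (inL_neg hw)

theorem mulQ_add_right (p a b : Ic) : mulQ p (a + b) = mulQ p a + mulQ p b :=
  phi_injective (by rw [phi_mulQ, phi_add, phi_add, phi_mulQ, phi_mulQ, mul_add])

theorem smulV_add_left (p q : Ic) (v : IV) : smulV (p + q) v = smulV p v + smulV q v := by
  simp [smulV, mulQ_add_left]

theorem smulV_zero_left (v : IV) : smulV 0 v = 0 := by simp [smulV, mulQ_zero_left]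

theorem ipV_add_left (x y r : IV) : ipV (x + y) r = ipV x r + ipV y r := by
  simp only [ipV, Prod.fst_add, Prod.snd_add, mulQ_add_left]; abel

theorem ipV_neg_left (x r : IV) : ipV (-x) r = -ipV x r :=
  eq_neg_of_add_eq_zero_left (by
    rw [← ipV_add_left, neg_add_cancel]
    simp [ipV, mulQ_zero_left])

theorem halfQ_add {p q : Ic} (hp : IsEvenQ p) (hq : IsEvenQ q) : halfQ (p + q) = halfQ p + halfQ q := by
  obtain ⟨a, rfl⟩ := hp
  obtain ⟨b, rfl⟩ := hq
  rw [add_add_add_comm, halfQ_double, halfQ_double, halfQ_double]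

/-- The vectors reflected by `r` into the lattice. -/
def reflDom (r : IV) : AddSubgroup IV where
  carrier := {x | IsEvenQ (ipV x r) ∧ inL (reflV r x) = true}
  zero_mem' := by
    have h : ipV 0 r = 0 := by simp [ipV, mulQ_zero_left]
    refine ⟨⟨0, by rw [h, add_zero]⟩, ?_⟩
    rw [reflV, h, show halfQ 0 = 0 by decide, smulV_zero_left, sub_zero, inL_zero]
  add_mem' := by
    rintro x y ⟨hx, hx'⟩ ⟨hy, hy'⟩
    refine ⟨?_, ?_⟩
    · obtain ⟨p, hp⟩ := hx
      obtain ⟨q, hq⟩ := hy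
      exact ⟨p + q, by rw [ipV_add_left, hp, hq]; abel⟩
    · have e : reflV r (x + y) = reflV r x + reflV r y := by
        rw [reflV, reflV, reflV, ipV_add_left, halfQ_add hx hy, smulV_add_left]; abel
      rw [e]; exact inL_add hx' hy'
  neg_mem' := by
    rintro x ⟨hx, hx'⟩
    obtain ⟨p, hp⟩ := hx
    refine ⟨⟨-p, by rw [ipV_neg_left, hp]; abel⟩, ?_⟩
    have e : reflV r (-x) = -reflV r x := by
      rw [reflV, reflV, ipV_neg_left, hp, show -(p + p) = -p + -p by abel, halfQ_double, halfQ_double,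
        eq_neg_iff_add_eq_zero, show -x - smulV (-p) r + (x - smulV p r) = -(smulV (-p) r + smulV p r) by abel,
        ← smulV_add_left, neg_add_cancel, smulV_zero_left, neg_zero]
    rw [e]; exact inL_neg hx'

/-- A vector of norm four whose reflection preserves the lattice. -/
structure IsRoot (r : IV) : Prop where
  mem : inL r = true
  norm : qip (psi r) (psi r) = 4
  pres : ∀ x, inL x = true → IsEvenQ (ipV x r) ∧ inL (reflV r x) = true

/-- The test for a root. -/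
def rootTest (r : IV) : Bool :=
  inL r && decide (nrmQ r.1 + (nrmQ r.2.1 + nrmQ r.2.2) = (4, 0)) &&
    codeGens.all fun g => parQ (ipV g r) == 0 && inL (reflV r g)

theorem isRoot_of_test {r : IV} (h : rootTest r = true) : IsRoot r := by
  simp only [rootTest, Bool.and_eq_true, decide_eq_true_eq, List.all_eq_true, beq_iff_eq] at h
  obtain ⟨⟨hr, hn⟩, hg⟩ := h
  refine ⟨hr, (qip_self_eq_four r).2 hn, fun x hx => mem_of_inL (reflDom r) ?_ ?_ hx⟩
  · intro w
    refine ⟨⟨ipV w r, ipV_add_left w w r⟩, ?_⟩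
    rw [reflV, ipV_add_left, halfQ_double]
    exact inL_sub (inL_double w) (inL_smulV hr)
  · intro g hmem
    refine ⟨?_, (hg g hmem).2⟩
    have := (parQ_eq_iff (ipV g r) 0).1 ((hg g hmem).1.trans parQ_zero.symm)
    rwa [sub_zero] at this

/-- Left multiplication of a quaternion vector. -/
def lmul (a : ℍ[ℝ]) (x : Fin 3 → ℍ[ℝ]) : Fin 3 → ℍ[ℝ] := fun t => a * x t

theorem qip_add_left (x y r : Fin 3 → ℍ[ℝ]) : qip (x + y) r = qip x r + qip y r := by
  simp [qip, add_mul, Finset.sum_add_distrib]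

theorem qip_sub_left (x y r : Fin 3 → ℍ[ℝ]) : qip (x - y) r = qip x r - qip y r := by
  simp [qip, sub_mul, Finset.sum_sub_distrib]

theorem qip_sub_right (x y r : Fin 3 → ℍ[ℝ]) : qip r (x - y) = qip r x - qip r y := by
  simp [qip, mul_sub, Finset.sum_sub_distrib]

theorem qip_lmul_left (a : ℍ[ℝ]) (x r : Fin 3 → ℍ[ℝ]) : qip (lmul a x) r = a * qip x r := by
  simp [qip, lmul, mul_assoc, Finset.mul_sum]

theorem qip_lmul_right (a : ℍ[ℝ]) (x r : Fin 3 → ℍ[ℝ]) : qip x (lmul a r) = qip x r * star a := by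
  simp [qip, lmul, mul_assoc, Finset.sum_mul]

theorem star_qip (x r : Fin 3 → ℍ[ℝ]) : star (qip x r) = qip r x := by
  simp [qip, star_sum]

theorem qrefl_eq (r x : Fin 3 → ℍ[ℝ]) : qrefl r x = x - lmul ((1 / 2 : ℝ) • qip x r) r := rfl

theorem qip_qrefl_left {r : Fin 3 → ℍ[ℝ]} (hr : qip r r = 4) (x : Fin 3 → ℍ[ℝ]) :
    qip (qrefl r x) r = -qip x r := by
  rw [qrefl_eq, qip_sub_left, qip_lmul_left, hr, smul_mul_assoc]
  have : (1 / 2 : ℝ) • (qip x r * 4) = qip x r + qip x r := by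
    rw [show (4 : ℍ[ℝ]) = ((4 : ℝ) : ℍ[ℝ]) from rfl, Quaternion.mul_coe_eq_smul, smul_smul,
      show (1 / 2 : ℝ) * 4 = 1 + 1 by norm_num, add_smul, one_smul]
  rw [this]; abel

theorem qrefl_qrefl {r : Fin 3 → ℍ[ℝ]} (hr : qip r r = 4) (x : Fin 3 → ℍ[ℝ]) : qrefl r (qrefl r x) = x := by
  funext t
  have h := qip_qrefl_left hr x
  show qrefl r x t - ((1 / 2 : ℝ) • qip (qrefl r x) r) * r t = x t
  rw [h, smul_neg, neg_mul, sub_neg_eq_add]
  show x t - ((1 / 2 : ℝ) • qip x r) * r t + _ = x t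
  rw [sub_add_cancel]

theorem qip_qrefl {r : Fin 3 → ℍ[ℝ]} (hr : qip r r = 4) (x y : Fin 3 → ℍ[ℝ]) :
    qip (qrefl r x) (qrefl r y) = qip x y := by
  have h1 : qip (qrefl r x) (qrefl r y) =
      qip (qrefl r x) y - qip (qrefl r x) r * star ((1 / 2 : ℝ) • qip y r) := by
    rw [qrefl_eq r y, qip_sub_right, qip_lmul_right]
  rw [h1, qip_qrefl_left hr, qrefl_eq, qip_sub_left, qip_lmul_left, ← star_qip y r, Quaternion.star_smul]
  simp [smul_mul_assoc, mul_smul_comm]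

theorem qrefl_add (r x y : Fin 3 → ℍ[ℝ]) : qrefl r (x + y) = qrefl r x + qrefl r y := by
  funext t
  simp [qrefl, qip_add_left, smul_add, add_mul]
  abel

theorem qrefl_lmul (a : ℍ[ℝ]) (r x : Fin 3 → ℍ[ℝ]) : qrefl r (lmul a x) = lmul a (qrefl r x) := by
  funext t
  show a * x t - ((1 / 2 : ℝ) • qip (lmul a x) r) * r t = a * (x t - ((1 / 2 : ℝ) • qip x r) * r t)
  rw [qip_lmul_left, mul_sub, ← mul_assoc, mul_smul_comm]

theorem qrefl_lmul_root {a : ℍ[ℝ]} (ha : star a * a = 1) (r x : Fin 3 → ℍ[ℝ]) :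
    qrefl (lmul a r) x = qrefl r x := by
  funext t
  simp only [qrefl, qip_lmul_right, lmul]
  rw [← smul_mul_assoc (1 / 2 : ℝ) (qip x r) (star a), mul_assoc, ← mul_assoc (star a), ha, one_mul]

/-- The sum of two points. -/
def addPt (x y : Pt) : Pt :=
  ⟨(x : Fin 3 → ℍ[ℝ]) + y, by
    obtain ⟨v, hv, rfl⟩ := exists_mkPt x
    obtain ⟨w, hw, rfl⟩ := exists_mkPt y
    show psi v + psi w ∈ icoLeech
    rw [← psi_add]
    exact (psi_mem_iff _).2 (inL_add hv hw)⟩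

theorem lmul_mem (a : Ic) (x : Pt) : lmul (phi a) (x : Fin 3 → ℍ[ℝ]) ∈ icoLeech := by
  obtain ⟨v, hv, rfl⟩ := exists_mkPt x
  show lmul (phi a) (psi v) ∈ icoLeech
  rw [show lmul (phi a) (psi v) = psi (smulV a v) from (psi_smulV a v).symm]
  exact (psi_mem_iff _).2 (inL_smulV hv)

/-- A scalar multiple of a point. -/
def smulPt (a : Ic) (x : Pt) : Pt := ⟨lmul (phi a) (x : Fin 3 → ℍ[ℝ]), lmul_mem a x⟩

theorem smulPt_mkPt (a : Ic) (v : IV) (h : inL v = true) : smulPt a (mkPt v h) = mkPt (smulV a v) (inL_smulV h) :=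
  Subtype.ext (psi_smulV a v).symm

/-- Permutations of the lattice preserving sums, scalars and the product. -/
structure IsSim (g : Equiv.Perm Pt) : Prop where
  add : ∀ x y, g (addPt x y) = addPt (g x) (g y)
  smul : ∀ a x, g (smulPt a x) = smulPt a (g x)
  ip : ∀ x y : Pt, qip (g x : Fin 3 → ℍ[ℝ]) (g y : Fin 3 → ℍ[ℝ]) = qip (x : Fin 3 → ℍ[ℝ]) (y : Fin 3 → ℍ[ℝ])

/-- The group of such permutations. -/
def simGroup : Subgroup (Equiv.Perm Pt) where
  carrier := {g | IsSim g}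
  one_mem' := ⟨fun _ _ => rfl, fun _ _ => rfl, fun _ _ => rfl⟩
  mul_mem' := fun {f g} hf hg =>
    ⟨fun x y => by show f (g (addPt x y)) = _; rw [hg.add, hf.add]; rfl,
      fun a x => by show f (g (smulPt a x)) = _; rw [hg.smul, hf.smul]; rfl,
      fun x y => by show qip (f (g x) : Fin 3 → ℍ[ℝ]) (f (g y) : Fin 3 → ℍ[ℝ]) = _; rw [hf.ip, hg.ip]⟩
  inv_mem' := fun {g} hg =>
    ⟨fun x y => g.injective (by rw [hg.add]; simp),
      fun a x => g.injective (by rw [hg.smul]; simp),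
      fun x y => by rw [← hg.ip]; simp⟩

/-- `f` is the reflection in `r`. -/
def IsReflAt (r : Pt) (f : Equiv.Perm Pt) : Prop :=
  qip (r : Fin 3 → ℍ[ℝ]) r = 4 ∧ ∀ x : Pt, (f x : Fin 3 → ℍ[ℝ]) = qrefl (r : Fin 3 → ℍ[ℝ]) x

theorem isReflAt_unique {r : Pt} {f f' : Equiv.Perm Pt} (h : IsReflAt r f) (h' : IsReflAt r f') : f = f' :=
  Equiv.ext fun x => Subtype.ext ((h.2 x).trans (h'.2 x).symm)

/-- The reflection in a root. -/
def rootPerm {r : IV} (h : IsRoot r) : Equiv.Perm Pt :=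
  Function.Involutive.toPerm
    (fun x => ⟨qrefl (psi r) (x : Fin 3 → ℍ[ℝ]), by
      obtain ⟨v, hv, rfl⟩ := exists_mkPt x
      show qrefl (psi r) (psi v) ∈ icoLeech
      rw [qrefl_psi (h.pres v hv).1]
      exact (psi_mem_iff _).2 (h.pres v hv).2⟩)
    fun x => Subtype.ext (qrefl_qrefl h.norm _)

theorem rootPerm_isReflAt {r : IV} (h : IsRoot r) : IsReflAt (mkPt r h.mem) (rootPerm h) :=
  ⟨h.norm, fun _ => rfl⟩

theorem isSim_of_isReflAt {r : Pt} {f : Equiv.Perm Pt} (h : IsReflAt r f) : f ∈ simGroup := by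
  refine ⟨fun x y => Subtype.ext ?_, fun a x => Subtype.ext ?_, fun x y => ?_⟩
  · show _ = (f x : Fin 3 → ℍ[ℝ]) + (f y : Fin 3 → ℍ[ℝ])
    rw [h.2, h.2, h.2]; exact qrefl_add _ _ _
  · show _ = lmul (phi a) (f x : Fin 3 → ℍ[ℝ])
    rw [h.2, h.2]; exact qrefl_lmul _ _ _
  · rw [h.2, h.2]; exact qip_qrefl h.1 _ _

theorem IsReflAt.conj {r : Pt} {f g : Equiv.Perm Pt} (h : IsReflAt r f) (hg : g ∈ simGroup)
    (heven : ∀ x : Pt, ∃ c : Ic, (1 / 2 : ℝ) • qip (x : Fin 3 → ℍ[ℝ]) r = phi c) :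
    IsReflAt (g r) (g * f * g⁻¹) := by
  refine ⟨by rw [hg.ip]; exact h.1, fun y => ?_⟩
  obtain ⟨c, hc⟩ := heven (g⁻¹ y)
  show (g (f (g⁻¹ y)) : Fin 3 → ℍ[ℝ]) = _
  have e : f (g⁻¹ y) = addPt (g⁻¹ y) (smulPt (-c) r) := Subtype.ext (by
    rw [h.2]
    funext t
    show _ = ((g⁻¹ y : Pt) : Fin 3 → ℍ[ℝ]) t + phi (-c) * (r : Fin 3 → ℍ[ℝ]) t
    rw [phi_neg, ← hc, qrefl, neg_mul, sub_eq_add_neg])
  have hq : qip (y : Fin 3 → ℍ[ℝ]) (g r : Fin 3 → ℍ[ℝ]) = qip ((g⁻¹ y : Pt) : Fin 3 → ℍ[ℝ]) r := by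
    rw [← hg.ip (g⁻¹ y) r]; simp
  rw [e, hg.add, hg.smul]
  funext t
  show ((g (g⁻¹ y) : Pt) : Fin 3 → ℍ[ℝ]) t + phi (-c) * (g r : Fin 3 → ℍ[ℝ]) t = _
  rw [qrefl, hq, hc, phi_neg, neg_mul, sub_eq_add_neg]
  simp

theorem IsReflAt.smul {r : Pt} {f : Equiv.Perm Pt} (h : IsReflAt r f) {a : Ic} (ha : star (phi a) * phi a = 1) :
    IsReflAt (smulPt a r) f := by
  have hsa : phi a * star (phi a) = 1 := by rwa [Quaternion.self_mul_star, ← Quaternion.star_mul_self]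
  refine ⟨?_, fun x => ?_⟩
  · show qip (lmul (phi a) _) (lmul (phi a) _) = 4
    rw [qip_lmul_left, qip_lmul_right, h.1]
    rw [show (4 : ℍ[ℝ]) = ((4 : ℝ) : ℍ[ℝ]) from rfl, Quaternion.coe_commutes, ← mul_assoc, hsa, one_mul]
  · show _ = qrefl (lmul (phi a) _) _
    rw [qrefl_lmul_root ha, h.2]

end CfsgLib.Ico
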