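import Cfsg.Prelude.Def_Spor_J2

/-!
# The icosian ring in integer coordinates

With `τ² = τ + 1`, `σ = 1 - τ` and `w = ½(1 + σ i + τ k)`, the icosian ring is free over `ℤ[τ]`
on `1, i, w, iw`.
-/

set_option autoImplicit false

noncomputable section

namespace CfsgLib.Ico

open Cfsg.Spor Quaternion

/-- `(a, b)` stands for `a + b τ`. -/
abbrev ZT : Type := ℤ × ℤ

/-- The product in `ℤ[τ]`. -/
def mulT (x y : ZT) : ZT := (x.1 * y.1 + x.2 * y.2, x.1 * y.2 + x.2 * y.1 + x.2 * y.2)

/-- Multiplication by `σ = 1 - τ`. -/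
def sigT (x : ZT) : ZT := (x.1 - x.2, -x.1)

/-- Coordinates with respect to `1, i, w, iw`. -/
abbrev Ic : Type := ZT × ZT × ZT × ZT

/-- The product of icosians. -/
def mulQ : Ic → Ic → Ic
  | (a, b, c, d), (e, f, g, h) =>
    (mulT a e - mulT b f - sigT (mulT c f) - mulT c g - mulT d f - mulT d h,
     mulT a f + mulT b e + mulT c f + mulT c h - sigT (mulT d f) - mulT d g,
     mulT a g + mulT c e - mulT b h + mulT c g - sigT (mulT c h) + mulT d f,
     mulT a h + mulT d e + mulT b g - mulT c f + mulT d g - sigT (mulT d h))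

/-- The conjugate. -/
def starQ : Ic → Ic
  | (a, b, c, d) => (a + c - sigT d, -b, -c, -d)

/-- A scalar in `ℤ[τ]`. -/
def scal (x : ZT) : Ic := (x, 0, 0, 0)

/-- The value of `a + b τ`. -/
def valT (x : ZT) : ℝ := x.1 + x.2 * tau

/-- The value at the other embedding. -/
def valS (x : ZT) : ℝ := x.1 + x.2 * sig

/-- The quaternion with given coordinates. -/
def phi : Ic → ℍ[ℝ]
  | (a, b, c, d) =>
    ⟨valT a + valT c / 2 - valT d * sig / 2, valT b + valT c * sig / 2 + valT d / 2,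
      -(valT d * tau) / 2, valT c * tau / 2⟩

theorem tau_add_sig : tau + sig = 1 := by unfold tau sig; ring

theorem sig_eq : sig = 1 - tau := by linarith [tau_add_sig]

theorem sqrt_five_sq : Real.sqrt 5 ^ 2 = 5 := Real.sq_sqrt (by norm_num)

theorem tau_sq : tau ^ 2 = tau + 1 := by
  unfold tau
  linear_combination (1 / 4) * sqrt_five_sq

theorem sig_sq : sig ^ 2 = sig + 1 := by
  unfold sig
  linear_combination (1 / 4) * sqrt_five_sq

theorem tau_pos : 0 < tau := by unfold tau; positivity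

theorem valT_add (x y : ZT) : valT (x + y) = valT x + valT y := by simp [valT]; ring

theorem valT_sub (x y : ZT) : valT (x - y) = valT x - valT y := by simp [valT]; ring

theorem valT_neg (x : ZT) : valT (-x) = -valT x := by simp [valT]; ring

theorem valT_zero : valT 0 = 0 := by simp [valT]

theorem valT_one : valT (1, 0) = 1 := by simp [valT]

theorem valT_mulT (x y : ZT) : valT (mulT x y) = valT x * valT y := by
  simp only [valT, mulT]
  push_cast
  linear_combination (-((x.2 : ℝ) * y.2)) * tau_sq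

theorem valT_sigT (x : ZT) : valT (sigT x) = valT x * sig := by
  simp only [valT, sigT, sig_eq]
  push_cast
  linear_combination ((x.2 : ℝ)) * tau_sq

theorem valS_add (x y : ZT) : valS (x + y) = valS x + valS y := by simp [valS]; ring

theorem valS_mulT (x y : ZT) : valS (mulT x y) = valS x * valS y := by
  simp only [valS, mulT]
  push_cast
  linear_combination (-((x.2 : ℝ) * y.2)) * sig_sq

theorem valT_injective : Function.Injective valT := by
  intro x y h
  have hs : Irrational (Real.sqrt 5) := by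
    simpa using Nat.Prime.irrational_sqrt (p := 5) (by norm_num)
  have hirr : Irrational tau := by
    unfold tau
    simpa using (hs.natCast_add 1).div_natCast (m := 2) (by norm_num)
  have e : ((y.2 - x.2 : ℤ) : ℝ) * tau = ((x.1 - y.1 : ℤ) : ℝ) := by
    simp only [valT] at h
    push_cast
    linarith
  rcases eq_or_ne (y.2 - x.2) 0 with h0 | h0
  · rw [h0, Int.cast_zero, zero_mul] at e
    have h1 : x.1 - y.1 = 0 := by exact_mod_cast e.symm
    exact Prod.ext (by omega) (by omega)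
  · exact absurd e ((hirr.intCast_mul h0).ne_int _)

@[simp] theorem phi_re (p : Ic) : (phi p).re = valT p.1 + valT p.2.2.1 / 2 - valT p.2.2.2 * sig / 2 := rfl

@[simp] theorem phi_imI (p : Ic) : (phi p).imI = valT p.2.1 + valT p.2.2.1 * sig / 2 + valT p.2.2.2 / 2 := rfl

@[simp] theorem phi_imJ (p : Ic) : (phi p).imJ = -(valT p.2.2.2 * tau) / 2 := rfl

@[simp] theorem phi_imK (p : Ic) : (phi p).imK = valT p.2.2.1 * tau / 2 := rfl

theorem phi_add (p q : Ic) : phi (p + q) = phi p + phi q := by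
  obtain ⟨a, b, c, d⟩ := p
  obtain ⟨e, f, g, h⟩ := q
  ext <;> simp [valT_add] <;> ring

theorem phi_zero : phi 0 = 0 := by
  show phi (0, 0, 0, 0) = 0
  ext <;> simp [phi, valT_zero]

theorem phi_neg (p : Ic) : phi (-p) = -phi p := by
  obtain ⟨a, b, c, d⟩ := p
  ext <;> simp [valT_neg] <;> ring

theorem phi_sub (p q : Ic) : phi (p - q) = phi p - phi q := by
  rw [sub_eq_add_neg, phi_add, phi_neg, sub_eq_add_neg]

theorem phi_scal (x : ZT) : phi (scal x) = (valT x : ℍ[ℝ]) := by
  ext <;> simp [phi, scal, valT_zero]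

theorem phi_one : phi ((1, 0), 0, 0, 0) = 1 := by
  ext <;> simp [phi, valT_zero, valT_one]

theorem phi_mulQ (p q : Ic) : phi (mulQ p q) = phi p * phi q := by
  obtain ⟨a, b, c, d⟩ := p
  obtain ⟨e, f, g, h⟩ := q
  ext <;>
    simp [mulQ, valT_add, valT_sub, valT_mulT, valT_sigT] <;>
    simp only [sig_eq] <;>
    grind [tau_sq]

theorem phi_starQ (p : Ic) : phi (starQ p) = star (phi p) := by
  obtain ⟨a, b, c, d⟩ := p
  ext <;> simp [starQ, valT_add, valT_sub, valT_neg, valT_sigT] <;> ring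

theorem phi_injective : Function.Injective phi := by
  intro p q h
  obtain ⟨a, b, c, d⟩ := p
  obtain ⟨e, f, g, k⟩ := q
  have h1 := congrArg QuaternionAlgebra.re h
  have h2 := congrArg QuaternionAlgebra.imI h
  have h3 := congrArg QuaternionAlgebra.imJ h
  have h4 := congrArg QuaternionAlgebra.imK h
  simp only [phi] at h1 h2 h3 h4
  have ht := tau_pos.ne'
  have hd : valT d = valT k := mul_right_cancel₀ ht (by linarith)
  have hc : valT c = valT g := mul_right_cancel₀ ht (by linarith)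
  rw [hc, hd] at h1 h2
  rw [valT_injective hc, valT_injective hd, valT_injective (show valT a = valT e by linarith),
    valT_injective (show valT b = valT f by linarith)]

/-- The icosians as the image of the coordinates. -/
def icoRing : Subring ℍ[ℝ] where
  carrier := Set.range phi
  mul_mem' := by rintro _ _ ⟨p, rfl⟩ ⟨q, rfl⟩; exact ⟨mulQ p q, phi_mulQ p q⟩
  one_mem' := ⟨_, phi_one⟩
  add_mem' := by rintro _ _ ⟨p, rfl⟩ ⟨q, rfl⟩; exact ⟨p + q, phi_add p q⟩
  zero_mem' := ⟨0, phi_zero⟩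
  neg_mem' := by rintro _ ⟨p, rfl⟩; exact ⟨-p, phi_neg p⟩

/-- `i`. -/
def bI : Ic := (0, (1, 0), 0, 0)

/-- `w`. -/
def bW : Ic := (0, 0, (1, 0), 0)

theorem phi_bI : phi bI = qI := by
  ext <;> simp [bI, qI, valT_zero, valT_one]

theorem phi_bW : phi bW = (⟨1 / 2, sig / 2, 0, tau / 2⟩ : ℍ[ℝ]) := by
  ext <;> simp [bW, valT_zero, valT_one]

theorem scal_mem (x : ZT) : phi (scal x) ∈ icosians := by
  have hI : phi bI ∈ icosians := phi_bI ▸ Subring.subset_closure (Set.mem_insert _ _)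
  have hW : phi bW ∈ icosians := phi_bW ▸ Subring.subset_closure (Set.mem_insert_of_mem _ rfl)
  have hs : phi (scal (0, 1)) ∈ icosians := by
    have e : scal (0, 1) = ((1, 0), 0, 0, 0) - (bI - mulQ bI bW - mulQ bW bI) := by decide
    rw [e, phi_sub, phi_sub, phi_sub, phi_one, phi_mulQ, phi_mulQ]
    exact sub_mem (one_mem _) (sub_mem (sub_mem hI (mul_mem hI hW)) (mul_mem hW hI))
  have e : phi (scal x) = (x.1 : ℍ[ℝ]) + (x.2 : ℍ[ℝ]) * phi (scal (0, 1)) := by
    rw [phi_scal, phi_scal]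
    ext <;> simp [valT]
  rw [e]
  exact add_mem (intCast_mem _ _) (mul_mem (intCast_mem _ _) hs)

theorem icosians_eq : icosians = icoRing := by
  apply le_antisymm
  · rw [icosians, Subring.closure_le]
    rintro x (rfl | rfl)
    · exact ⟨bI, phi_bI⟩
    · exact ⟨bW, phi_bW⟩
  · rintro _ ⟨⟨a, b, c, d⟩, rfl⟩
    have hI : phi bI ∈ icosians := phi_bI ▸ Subring.subset_closure (Set.mem_insert _ _)
    have hW : phi bW ∈ icosians := phi_bW ▸ Subring.subset_closure (Set.mem_insert_of_mem _ rfl)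
    have e : ((a, b, c, d) : Ic) = scal a + mulQ (scal b) bI + mulQ (scal c) bW + mulQ (scal d) (mulQ bI bW) := by
      simp [scal, mulQ, bI, bW, mulT, sigT, Prod.ext_iff]
    rw [e, phi_add, phi_add, phi_add, phi_mulQ, phi_mulQ, phi_mulQ, phi_mulQ]
    exact add_mem (add_mem (add_mem (scal_mem a) (mul_mem (scal_mem b) hI)) (mul_mem (scal_mem c) hW))
      (mul_mem (scal_mem d) (mul_mem hI hW))

theorem mem_icosians {x : ℍ[ℝ]} : x ∈ icosians ↔ ∃ p, phi p = x := by
  rw [icosians_eq]; rfl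

theorem phi_mem (p : Ic) : phi p ∈ icosians := mem_icosians.2 ⟨p, rfl⟩

/-- The norm. -/
def nrmQ (p : Ic) : ZT := (mulQ p (starQ p)).1

theorem mulQ_starQ (p : Ic) : mulQ p (starQ p) = scal (nrmQ p) := by
  obtain ⟨⟨a, a'⟩, ⟨b, b'⟩, ⟨c, c'⟩, ⟨d, d'⟩⟩ := p
  simp only [nrmQ, scal, mulQ, starQ, mulT, sigT, Prod.mk.injEq, Prod.fst_add, Prod.snd_add, Prod.fst_sub,
    Prod.snd_sub, Prod.fst_neg, Prod.snd_neg, Prod.fst_zero, Prod.snd_zero, Prod.ext_iff, true_and]
  refine ⟨⟨?_, ?_⟩, ⟨?_, ?_⟩, ?_, ?_⟩ <;> ring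

theorem phi_mul_star (p : Ic) : phi p * star (phi p) = (valT (nrmQ p) : ℍ[ℝ]) := by
  rw [← phi_starQ, ← phi_mulQ, mulQ_starQ, phi_scal]

/-- Double of the first square root in four times the norm. -/
def sq0 : Ic → ZT
  | (a, _, c, d) => a + a + c - sigT d

/-- Double of the second square root. -/
def sq1 : Ic → ZT
  | (_, b, c, d) => b + b + sigT c + d

theorem four_nrm (p : Ic) : nrmQ p + nrmQ p + nrmQ p + nrmQ p =
    mulT (sq0 p) (sq0 p) + mulT (sq1 p) (sq1 p) + mulT (mulT (0, 1) p.2.2.1) (mulT (0, 1) p.2.2.1) +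
      mulT (mulT (0, 1) p.2.2.2) (mulT (0, 1) p.2.2.2) := by
  obtain ⟨⟨a, a'⟩, ⟨b, b'⟩, ⟨c, c'⟩, ⟨d, d'⟩⟩ := p
  simp only [nrmQ, sq0, sq1, mulQ, starQ, mulT, sigT, Prod.ext_iff, Prod.fst_add, Prod.snd_add, Prod.fst_sub,
    Prod.snd_sub, Prod.fst_neg, Prod.snd_neg]
  constructor <;> ring

end CfsgLib.Ico
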