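import Cfsg.Agent.Lib.Ico.Enum

/-!
# Certified enumeration of small icosians, part 0
-/

set_option autoImplicit false
set_option maxRecDepth 100000

namespace CfsgLib.Ico

set_option maxHeartbeats 4000000 in
theorem small_ok0 : okAll (smallAt (smallT.getD 0 0)) (Data.cert.getD 0 []) = true := by decide +kernel

set_option maxHeartbeats 4000000 in
theorem small_ok1 : okAll (smallAt (smallT.getD 1 0)) (Data.cert.getD 1 []) = true := by decide +kernel

set_option maxHeartbeats 4000000 in
theorem small_ok2 : okAll (smallAt (smallT.getD 2 0)) (Data.cert.getD 2 []) = true := by decide +kernel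

set_option maxHeartbeats 4000000 in
theorem small_ok3 : okAll (smallAt (smallT.getD 3 0)) (Data.cert.getD 3 []) = true := by decide +kernel

set_option maxHeartbeats 4000000 in
theorem small_ok4 : okAll (smallAt (smallT.getD 4 0)) (Data.cert.getD 4 []) = true := by decide +kernel

set_option maxHeartbeats 4000000 in
theorem small_ok5 : okAll (smallAt (smallT.getD 5 0)) (Data.cert.getD 5 []) = true := by decide +kernel

set_option maxHeartbeats 4000000 in
theorem small_ok6 : okAll (smallAt (smallT.getD 6 0)) (Data.cert.getD 6 []) = true := by decide +kernel

set_option maxHeartbeats 4000000 in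
theorem small_ok7 : okAll (smallAt (smallT.getD 7 0)) (Data.cert.getD 7 []) = true := by decide +kernel

end CfsgLib.Ico
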