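import Cfsg.Agent.Lib.Ico.Small0

/-!
# Certified enumeration of small icosians, part 1
-/

set_option autoImplicit false
set_option maxRecDepth 100000

namespace CfsgLib.Ico

set_option maxHeartbeats 4000000 in
theorem small_ok8 : okAll (smallAt (smallT.getD 8 0)) (Data.cert.getD 8 []) = true := by decide +kernel

set_option maxHeartbeats 4000000 in
theorem small_ok9 : okAll (smallAt (smallT.getD 9 0)) (Data.cert.getD 9 []) = true := by decide +kernel

set_option maxHeartbeats 4000000 in
theorem small_ok10 : okAll (smallAt (smallT.getD 10 0)) (Data.cert.getD 10 []) = true := by decide +kernel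

set_option maxHeartbeats 4000000 in
theorem small_ok11 : okAll (smallAt (smallT.getD 11 0)) (Data.cert.getD 11 []) = true := by decide +kernel

set_option maxHeartbeats 4000000 in
theorem small_ok12 : okAll (smallAt (smallT.getD 12 0)) (Data.cert.getD 12 []) = true := by decide +kernel

set_option maxHeartbeats 4000000 in
theorem small_ok13 : okAll (smallAt (smallT.getD 13 0)) (Data.cert.getD 13 []) = true := by decide +kernel

set_option maxHeartbeats 4000000 in
theorem small_ok14 : okAll (smallAt (smallT.getD 14 0)) (Data.cert.getD 14 []) = true := by decide +kernel

set_option maxHeartbeats 4000000 in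
theorem small_ok15 : okAll (smallAt (smallT.getD 15 0)) (Data.cert.getD 15 []) = true := by decide +kernel

end CfsgLib.Ico
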