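import Cfsg.Agent.Lib.Ico.Small1

/-!
# Certified enumeration of small icosians, part 2
-/

set_option autoImplicit false
set_option maxRecDepth 100000

namespace CfsgLib.Ico

set_option maxHeartbeats 4000000 in
theorem small_ok16 : okAll (smallAt (smallT.getD 16 0)) (Data.cert.getD 16 []) = true := by decide +kernel

set_option maxHeartbeats 4000000 in
theorem small_ok17 : okAll (smallAt (smallT.getD 17 0)) (Data.cert.getD 17 []) = true := by decide +kernel

set_option maxHeartbeats 4000000 in
theorem small_ok18 : okAll (smallAt (smallT.getD 18 0)) (Data.cert.getD 18 []) = true := by decide +kernel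

set_option maxHeartbeats 4000000 in
theorem small_ok19 : okAll (smallAt (smallT.getD 19 0)) (Data.cert.getD 19 []) = true := by decide +kernel

set_option maxHeartbeats 4000000 in
theorem small_ok20 : okAll (smallAt (smallT.getD 20 0)) (Data.cert.getD 20 []) = true := by decide +kernel

set_option maxHeartbeats 4000000 in
theorem small_ok21 : okAll (smallAt (smallT.getD 21 0)) (Data.cert.getD 21 []) = true := by decide +kernel

set_option maxHeartbeats 4000000 in
theorem small_ok22 : okAll (smallAt (smallT.getD 22 0)) (Data.cert.getD 22 []) = true := by decide +kernel

set_option maxHeartbeats 4000000 in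
theorem small_ok23 : okAll (smallAt (smallT.getD 23 0)) (Data.cert.getD 23 []) = true := by decide +kernel

end CfsgLib.Ico
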