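import Cfsg.Agent.Lib.Ico.Small2

/-!
# Certified enumeration of small icosians, part 3
-/

set_option autoImplicit false
set_option maxRecDepth 100000

namespace CfsgLib.Ico

set_option maxHeartbeats 4000000 in
theorem small_ok24 : okAll (smallAt (smallT.getD 24 0)) (Data.cert.getD 24 []) = true := by decide +kernel

set_option maxHeartbeats 4000000 in
theorem small_ok25 : okAll (smallAt (smallT.getD 25 0)) (Data.cert.getD 25 []) = true := by decide +kernel

set_option maxHeartbeats 4000000 in
theorem small_ok26 : okAll (smallAt (smallT.getD 26 0)) (Data.cert.getD 26 []) = true := by decide +kernel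

set_option maxHeartbeats 4000000 in
theorem small_ok27 : okAll (smallAt (smallT.getD 27 0)) (Data.cert.getD 27 []) = true := by decide +kernel

set_option maxHeartbeats 4000000 in
theorem small_ok28 : okAll (smallAt (smallT.getD 28 0)) (Data.cert.getD 28 []) = true := by decide +kernel

set_option maxHeartbeats 4000000 in
theorem small_ok29 : okAll (smallAt (smallT.getD 29 0)) (Data.cert.getD 29 []) = true := by decide +kernel

set_option maxHeartbeats 4000000 in
theorem small_ok30 : okAll (smallAt (smallT.getD 30 0)) (Data.cert.getD 30 []) = true := by decide +kernel

end CfsgLib.Ico
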