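import Cfsg.Agent.Lib.Golay.J2Check
import Cfsg.Agent.Lib.SmallGroups.U33Degrees.ModelData

/-!
# Pairs of a permutation of 100 points and a unitary matrix over the model field, coded
-/

set_option autoImplicit false

noncomputable section

namespace CfsgLib.Ico.U33

open Matrix CfsgLib.Techniques.UThreeLTwo CfsgLib.Golay
open CfsgLib.SmallGroups.U33Degrees (UnitB unitB_iff)

/-- The pairs. -/
abbrev Pair : Type := Equiv.Perm (Fin 100) × (Matrix (Fin 3) (Fin 3) W9)ˣ

/-- The vectors. -/
def Vec : Type := Fin 3 → W9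

instance instMulActionPairVec : MulAction Pair Vec where
  smul g v := (g.2 : Matrix (Fin 3) (Fin 3) W9) *ᵥ (v : Fin 3 → W9)
  one_smul v := Matrix.one_mulVec (v : Fin 3 → W9)
  mul_smul g h v := (Matrix.mulVec_mulVec (v : Fin 3 → W9) (g.2 : Matrix (Fin 3) (Fin 3) W9) h.2).symm

/-- The code of a field element. -/
def ew (x : W9) : ℕ := x.re.val + 3 * x.im.val

/-- The code of a matrix. -/
def enc (X : Matrix (Fin 3) (Fin 3) W9) : ℕ :=
  ew (X 0 0) + 9 * ew (X 0 1) + 81 * ew (X 0 2) + 729 * ew (X 1 0) + 6561 * ew (X 1 1) + 59049 * ew (X 1 2) +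
    531441 * ew (X 2 0) + 4782969 * ew (X 2 1) + 43046721 * ew (X 2 2)

theorem ew_lt : ∀ x : W9, ew x < 9 := by decide +kernel

theorem el_ew : ∀ x : W9, el (ew x) = x := by decide +kernel

theorem enc_lt (X : Matrix (Fin 3) (Fin 3) W9) : enc X < 387420489 := by
  unfold enc
  have := ew_lt (X 0 0); have := ew_lt (X 0 1); have := ew_lt (X 0 2)
  have := ew_lt (X 1 0); have := ew_lt (X 1 1); have := ew_lt (X 1 2)
  have := ew_lt (X 2 0); have := ew_lt (X 2 1); have := ew_lt (X 2 2)
  omega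

theorem dec_enc (X : Matrix (Fin 3) (Fin 3) W9) : dec (enc X) = X := by
  have := ew_lt (X 0 0); have := ew_lt (X 0 1); have := ew_lt (X 0 2)
  have := ew_lt (X 1 0); have := ew_lt (X 1 1); have := ew_lt (X 1 2)
  have := ew_lt (X 2 0); have := ew_lt (X 2 1); have := ew_lt (X 2 2)
  ext i j : 2
  refine Eq.trans ?_ (el_ew (X i j))
  simp only [dec, Matrix.of_apply]
  refine congrArg el ?_
  fin_cases i <;> fin_cases j <;> simp [enc] <;> omega

/-- The matrix part of a code. -/
def matPart (c : ℕ) : Matrix (Fin 3) (Fin 3) W9 := dec (c % 387420489)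

/-- The permutation part of a code. -/
def permPart (c : ℕ) : ℕ := c / 387420489

/-- Pairing. -/
def join (A : ℕ) (X : Matrix (Fin 3) (Fin 3) W9) : ℕ := enc X + 387420489 * A

theorem matPart_join (A : ℕ) (X : Matrix (Fin 3) (Fin 3) W9) : matPart (join A X) = X := by
  rw [matPart, join, Nat.add_mul_mod_self_left, Nat.mod_eq_of_lt (enc_lt X), dec_enc]

theorem permPart_join (A : ℕ) (X : Matrix (Fin 3) (Fin 3) W9) : permPart (join A X) = A := by
  rw [permPart, join, Nat.add_mul_div_left _ _ (by norm_num), Nat.div_eq_of_lt (enc_lt X), zero_add]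

/-- A unimodular matrix as a unit. -/
def unitOf (X : Matrix (Fin 3) (Fin 3) W9) : (Matrix (Fin 3) (Fin 3) W9)ˣ :=
  if h : X.det = 1 then ⟨X, X.adjugate, by rw [Matrix.mul_adjugate, h, one_smul],
    by rw [Matrix.adjugate_mul, h, one_smul]⟩ else 1

theorem unitOf_coe {X : Matrix (Fin 3) (Fin 3) W9} (h : X ∈ unitW9) : (unitOf X : Matrix (Fin 3) (Fin 3) W9) = X := by
  have h' : X.det = 1 := h.1
  rw [unitOf, dif_pos h']

/-- The code of a vector. -/
def ev (v : Fin 3 → W9) : ℕ := ew (v 0) + 9 * ew (v 1) + 81 * ew (v 2)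

/-- The vector of a code. -/
def dv (p : ℕ) : Fin 3 → W9 := ![el (p % 9), el (p / 9 % 9), el (p / 81 % 9)]

theorem dv_ev (v : Fin 3 → W9) : dv (ev v) = v := by
  have := ew_lt (v 0); have := ew_lt (v 1); have := ew_lt (v 2)
  funext i
  refine Eq.trans ?_ (el_ew (v i))
  fin_cases i <;> simp [dv, ev] <;> congr 1 <;> omega

theorem ev_lt (v : Fin 3 → W9) : ev v < 729 := by
  have := ew_lt (v 0); have := ew_lt (v 1); have := ew_lt (v 2)
  unfold ev
  omega

theorem dv_inj : ∀ p : Fin 729, ev (dv p.val) = p.val := by decide +kernel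

/-- The coded pairs acting on vectors. -/
def O : Bsgs.Ops Pair Vec where
  val c := (J2.O.val (permPart c), unitOf (matPart c))
  ok c := J2.O.ok (permPart c) && UnitB (matPart c)
  one := join J2.O.one 1
  mul a b := join (J2.O.mul (permPart a) (permPart b)) (matPart a * matPart b)
  pt p := dv p
  ptOk p := decide (p < 729)
  img a p := ev (matPart a *ᵥ dv p)
  ok_one := by
    rw [permPart_join, matPart_join, J2.O.ok_one, Bool.true_and, unitB_iff]
    exact one_mem _
  val_one := by
    rw [permPart_join, matPart_join, J2.O.val_one]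
    exact Prod.ext rfl (Units.ext (unitOf_coe (one_mem _)))
  ok_mul a b ha hb := by
    simp only [Bool.and_eq_true, unitB_iff] at ha hb ⊢
    rw [permPart_join, matPart_join]
    exact ⟨J2.O.ok_mul _ _ ha.1 hb.1, mul_mem ha.2 hb.2⟩
  val_mul a b ha hb := by
    simp only [Bool.and_eq_true, unitB_iff] at ha hb
    rw [permPart_join, matPart_join, J2.O.val_mul _ _ ha.1 hb.1]
    refine Prod.ext rfl (Units.ext ?_)
    show (unitOf (matPart a * matPart b) : Matrix (Fin 3) (Fin 3) W9) =
      (unitOf (matPart a) : Matrix (Fin 3) (Fin 3) W9) * (unitOf (matPart b) : Matrix (Fin 3) (Fin 3) W9)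
    rw [unitOf_coe (mul_mem ha.2 hb.2), unitOf_coe ha.2, unitOf_coe hb.2]
  pt_img a p ha _ := by
    simp only [Bool.and_eq_true, unitB_iff] at ha
    refine ⟨?_, decide_eq_true (ev_lt _)⟩
    rw [dv_ev]
    show (unitOf (matPart a) : Matrix (Fin 3) (Fin 3) W9) *ᵥ dv p = _
    rw [unitOf_coe ha.2]
  pt_inj p q hp hq h := by
    exact ((dv_inj ⟨p, of_decide_eq_true hp⟩).symm.trans (congrArg ev h)).trans
      (dv_inj ⟨q, of_decide_eq_true hq⟩)

end CfsgLib.Ico.U33
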